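import Mathlib

/-!
# Counting exponent vectors with bounded entries by generating functions
-/

set_option autoImplicit false

open Finset PowerSeries

namespace Groth.Agent.Lib.AlgMisc.BoundedExp

/-- `∑_{1 ≤ a ≤ m} X^a`. -/
noncomputable def gen (m : ℕ) : PowerSeries ℤ := ∑ a ∈ Icc 1 m, X ^ a

theorem gen_mul_one_sub (m : ℕ) : gen m * (1 - X) = X * (1 - X ^ m) := by
  induction m with
  | zero => simp [gen]
  | succ m ih =>
    rw [gen, Finset.sum_Icc_succ_top (by omega), add_mul]
    rw [gen] at ih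
    rw [ih]
    ring

theorem gen_pow_eq (m n : ℕ) :
    gen m ^ n = X ^ n * (1 - X ^ m) ^ n * (invOneSubPow ℤ n).val := by
  have h : ((1 : PowerSeries ℤ) - X) ^ n * (invOneSubPow ℤ n).val = 1 := by
    rw [← invOneSubPow_inv_eq_one_sub_pow]
    exact (invOneSubPow ℤ n).inv_val
  calc gen m ^ n = gen m ^ n * ((1 - X) ^ n * (invOneSubPow ℤ n).val) := by rw [h, mul_one]
    _ = _ := by rw [← mul_assoc, ← mul_pow, gen_mul_one_sub, mul_pow]

/-- The subtype of bounded exponent vectors as a finset. -/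
theorem card_eq_filter (p n : ℕ) (P : (Fin n → ℕ) → Prop) [DecidablePred P] :
    Fintype.card {e : Fin n → Fin p // (∀ i, 1 ≤ (e i : ℕ)) ∧ P fun i => (e i : ℕ)} =
      ((Fintype.piFinset fun _ : Fin n => Icc 1 (p - 1)).filter P).card := by
  rw [Fintype.card_subtype]
  refine Finset.card_bij (fun e _ i => (e i : ℕ)) ?_ ?_ ?_
  · intro e he
    simp only [mem_filter, mem_univ, true_and] at he
    simp only [mem_filter, Fintype.mem_piFinset, mem_Icc]
    exact ⟨fun i => ⟨he.1 i, by have := (e i).2; omega⟩, he.2⟩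
  · intro e₁ _ e₂ _ h
    funext i
    exact Fin.ext (congrFun h i)
  · intro x hx
    simp only [mem_filter, Fintype.mem_piFinset, mem_Icc] at hx
    refine ⟨fun i => ⟨x i, by have := hx.1 i; omega⟩, ?_, rfl⟩
    simp only [mem_filter, mem_univ, true_and]
    exact ⟨fun i => (hx.1 i).1, hx.2⟩

theorem card_eq_coeff (p n s : ℕ) :
    (Fintype.card {e : Fin n → Fin p // (∀ i, 1 ≤ (e i : ℕ)) ∧ ∑ i, (e i : ℕ) = s} : ℤ) =
      coeff s (gen (p - 1) ^ n) := by
  rw [card_eq_filter p n fun x => ∑ i, x i = s]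
  have hp : gen (p - 1) ^ n = ∏ _i : Fin n, ∑ a ∈ Icc 1 (p - 1), (X : PowerSeries ℤ) ^ a := by
    rw [Finset.prod_const, Finset.card_univ, Fintype.card_fin, gen]
  rw [hp, Finset.prod_univ_sum, map_sum]
  simp_rw [Finset.prod_pow_eq_pow_sum, coeff_X_pow]
  rw [Finset.sum_boole]
  simp only [eq_comm]

theorem coeff_gen_pow (m n s : ℕ) (hn : 1 ≤ n) :
    coeff s (gen m ^ n) = ∑ i ∈ range (n + 1), (-1 : ℤ) ^ i * (n.choose i : ℤ) *
      (if i * m + n ≤ s then (((s - i * m - 1).choose (n - 1) : ℕ) : ℤ) else 0) := by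
  have h1 : ((1 : PowerSeries ℤ) - X ^ m) ^ n =
      ∑ i ∈ range (n + 1), C ((-1 : ℤ) ^ i * (n.choose i : ℤ)) * X ^ (i * m) := by
    rw [sub_eq_add_neg, add_comm, add_pow]
    refine Finset.sum_congr rfl fun i _ => ?_
    rw [one_pow, mul_one, neg_pow, map_mul, map_pow, map_neg, map_one, ← pow_mul, mul_comm m i, map_natCast]
    ring
  rw [gen_pow_eq, h1, Finset.mul_sum, Finset.sum_mul, map_sum]
  refine Finset.sum_congr rfl fun i _ => ?_
  rw [show X ^ n * (C ((-1 : ℤ) ^ i * (n.choose i : ℤ)) * X ^ (i * m)) * (invOneSubPow ℤ n).val =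
      C ((-1 : ℤ) ^ i * (n.choose i : ℤ)) * (X ^ (i * m + n) * (invOneSubPow ℤ n).val) by
    rw [pow_add]; ring]
  rw [coeff_C_mul, coeff_X_pow_mul', invOneSubPow_val_eq_mk_sub_one_add_choose_of_pos _ _ hn]
  congr 1
  split_ifs with h
  · rw [coeff_mk]
    congr 2
    omega
  · rfl

theorem card_small_eq_coeff (h n D s : ℕ) :
    (Fintype.card {e : Fin n → Fin (2 * h + 1) // (∀ i, 1 ≤ (e i : ℕ)) ∧ ∑ i, (e i : ℕ) = s ∧
        (Finset.univ.filter fun i => 2 * (e i : ℕ) < 2 * h + 1).card = D} : ℤ) =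
      n.choose D * coeff s (gen h ^ D * (X ^ (h * (n - D)) * gen h ^ (n - D))) := by
  classical
  rw [card_eq_filter (2 * h + 1) n fun x => ∑ i, x i = s ∧ (Finset.univ.filter fun i => 2 * x i < 2 * h + 1).card = D]
  let w : ℕ → ℕ := fun a => if 2 * a < 2 * h + 1 then 1 else 0
  let F : Polynomial (PowerSeries ℤ) := ∑ a ∈ Icc 1 (2 * h), Polynomial.monomial (w a) (X ^ a)
  have hF : F = Polynomial.monomial 1 (gen h) + Polynomial.monomial 0 (X ^ h * gen h) := by
    have hsplit : Icc 1 (2 * h) = Icc 1 h ∪ Icc (1 + h) (h + h) := by ext; simp; omega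
    have hdis : Disjoint (Icc 1 h) (Icc (1 + h) (h + h)) := by
      rw [Finset.disjoint_left]; simp; omega
    simp only [F]
    rw [hsplit, Finset.sum_union hdis, gen, Finset.mul_sum, map_sum, map_sum]
    congr 1
    · refine Finset.sum_congr rfl fun a ha => ?_
      rw [mem_Icc] at ha
      simp only [w, if_pos (show 2 * a < 2 * h + 1 by omega)]
    · rw [← Finset.map_add_right_Icc 1 h h, Finset.sum_map]
      refine Finset.sum_congr rfl fun a ha => ?_
      rw [mem_Icc] at ha
      simp only [addRightEmbedding_apply, w, if_neg (show ¬ 2 * (a + h) < 2 * h + 1 by omega)]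
      rw [pow_add, mul_comm]
  have key : (F ^ n).coeff D =
      ∑ x ∈ (Fintype.piFinset fun _ : Fin n => Icc 1 (2 * h)).filter
        (fun x => (Finset.univ.filter fun i => 2 * x i < 2 * h + 1).card = D),
        (X : PowerSeries ℤ) ^ (∑ i, x i) := by
    have : F ^ n = ∏ _i : Fin n, F := by rw [Finset.prod_const, Finset.card_univ, Fintype.card_fin]
    rw [this, Finset.prod_univ_sum, Polynomial.finsetSum_coeff, Finset.sum_filter]
    refine Finset.sum_congr rfl fun x _ => ?_
    have hmon : ∏ i, Polynomial.monomial (w (x i)) ((X : PowerSeries ℤ) ^ x i) =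
        Polynomial.monomial (∑ i, w (x i)) (X ^ ∑ i, x i) := by
      simp only [← Polynomial.C_mul_X_pow_eq_monomial, Finset.prod_mul_distrib, ← map_prod,
        Finset.prod_pow_eq_pow_sum]
    rw [hmon, Polynomial.coeff_monomial, Finset.card_filter]
  have hcoef : (F ^ n).coeff D = (n.choose D : PowerSeries ℤ) * (gen h ^ D * (X ^ h * gen h) ^ (n - D)) := by
    rw [hF, add_pow, Polynomial.finsetSum_coeff]
    rw [Finset.sum_eq_single D]
    · rw [Polynomial.monomial_pow, Polynomial.monomial_pow, Polynomial.monomial_mul_monomial,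
        ← Polynomial.C_eq_natCast, mul_comm, Polynomial.C_mul_monomial, Polynomial.coeff_monomial,
        if_pos (by simp)]
    · intro j _ hj
      rw [Polynomial.monomial_pow, Polynomial.monomial_pow, Polynomial.monomial_mul_monomial,
        ← Polynomial.C_eq_natCast, mul_comm, Polynomial.C_mul_monomial, Polynomial.coeff_monomial,
        if_neg (by simpa using hj)]
    · intro hD
      simp only [mem_range, not_lt] at hD
      simp [Nat.choose_eq_zero_of_lt (show n < D by omega)]
  rw [hcoef, mul_pow, ← pow_mul] at key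
  have h2 := congrArg (coeff s) key
  rw [← nsmul_eq_mul, map_nsmul, nsmul_eq_mul, map_sum] at h2
  rw [h2]
  simp only [coeff_X_pow, Finset.sum_boole, Finset.filter_filter, Nat.add_sub_cancel]
  congr 2
  ext x
  simp only [mem_filter]
  constructor
  · rintro ⟨a, b, c⟩; exact ⟨a, c, b.symm⟩
  · rintro ⟨a, c, b⟩; exact ⟨a, b.symm, c⟩

theorem coeff_gen_pow_mul_shift (h D k s : ℕ) :
    coeff s (gen h ^ D * (X ^ (h * k) * gen h ^ k)) =
      ∑ j ∈ range (s + 1), coeff j (gen h ^ D) * coeff (s - j - k * h) (gen h ^ k) := by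
  rw [coeff_mul, Finset.Nat.sum_antidiagonal_eq_sum_range_succ (fun a b => coeff a (gen h ^ D) * coeff b (X ^ (h * k) * gen h ^ k))]
  refine Finset.sum_congr rfl fun j hj => ?_
  congr 1
  rw [coeff_X_pow_mul', mul_comm h k]
  split_ifs with hle
  · rfl
  · rw [Nat.sub_eq_zero_of_le (by omega), coeff_zero_eq_constantCoeff, map_pow]
    have h0 : constantCoeff (gen h) = (0 : ℤ) := by
      rw [gen, map_sum]
      refine Finset.sum_eq_zero fun a ha => ?_
      rw [mem_Icc] at ha
      simp [show a ≠ 0 by omega]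
    have hk : k ≠ 0 := by rintro rfl; simp at hle
    rw [h0, zero_pow hk]

end Groth.Agent.Lib.AlgMisc.BoundedExp
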