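import Mathlib

/-! # Reducedness from reduced fibres and flat reduction -/

set_option autoImplicit false
open scoped TensorProduct

namespace GrothLib.AlgMisc

universe u v

variable {A : Type u} {B : Type v} [CommRing A] [CommRing B] [Algebra A B]

/-- An element vanishing in the fibre over `p` is, up to a unit at `p`, in `pB`. -/
theorem exists_mul_mem_map {p : Ideal A} [p.IsPrime] {b : B}
    (h : (1 : p.ResidueField) ⊗ₜ[A] b = 0) :
    ∃ a : A, a ∉ p ∧ algebraMap A B a * b ∈ p.map (algebraMap A B) := by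
  let Q := B ⧸ p.map (algebraMap A B)
  let S : Submonoid Q := p.primeCompl.map (algebraMap A Q : A →* Q)
  let L := Localization S
  have hunit : ∀ a : p.primeCompl, IsUnit ((Algebra.ofId A L) a.1) := fun a => by
    have := IsLocalization.map_units L (⟨algebraMap A Q a.1, a.1, a.2, rfl⟩ : S)
    rwa [← IsScalarTower.algebraMap_apply A Q L] at this
  let φ₀ : Localization.AtPrime p →ₐ[A] L := IsLocalization.liftAlgHom (f := Algebra.ofId A L) hunit
  have hker : ∀ x ∈ IsLocalRing.maximalIdeal (Localization.AtPrime p), φ₀ x = 0 := by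
    intro x hx
    rw [← Localization.AtPrime.map_eq_maximalIdeal] at hx
    refine (Ideal.map_le_iff_le_comap.mpr fun a ha => ?_ : _ ≤ RingHom.ker φ₀.toRingHom) hx
    change φ₀ (algebraMap A (Localization.AtPrime p) a) = 0
    rw [φ₀.commutes, IsScalarTower.algebraMap_apply A Q L,
      show algebraMap A Q a = 0 from Ideal.Quotient.eq_zero_iff_mem.mpr (Ideal.mem_map_of_mem _ ha), map_zero]
  let φ : p.ResidueField →ₐ[A] L := Ideal.Quotient.liftₐ _ φ₀ hker
  let ψ : B →ₐ[A] L := (IsScalarTower.toAlgHom A Q L).comp (Ideal.Quotient.mkₐ A _)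
  have h1 := congrArg (Algebra.TensorProduct.lift φ ψ fun _ _ => Commute.all _ _) h
  rw [Algebra.TensorProduct.lift_tmul, map_one, one_mul, map_zero] at h1
  obtain ⟨⟨_, a, ha, rfl⟩, hab⟩ := (IsLocalization.map_eq_zero_iff S L (Ideal.Quotient.mk _ b)).mp h1
  refine ⟨a, ha, ?_⟩
  rw [← Ideal.Quotient.eq_zero_iff_mem, map_mul]
  exact hab

/-- For a submodule with flat quotient, `IB ∩ N = IN`. -/
theorem mem_smul_of_mem_of_flat (N : Submodule A B) [Module.Flat A (B ⧸ N)] (I : Ideal A) {x : B}
    (hx : x ∈ I.map (algebraMap A B)) (hxN : x ∈ N) : x ∈ I • N := by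
  have hx' : x ∈ I • (⊤ : Submodule A B) := by rw [Ideal.smul_top_eq_map]; exact hx
  let m : I ⊗[A] B →ₗ[A] B := TensorProduct.lift ((LinearMap.lsmul A B).comp I.subtype)
  have hm : ∀ y ∈ I • (⊤ : Submodule A B), ∃ ξ, m ξ = y := fun y hy =>
    Submodule.smul_induction_on hy (fun a ha b _ => ⟨⟨a, ha⟩ ⊗ₜ b, rfl⟩)
      fun y z ⟨s, hs⟩ ⟨t, ht⟩ => ⟨s + t, by rw [map_add, hs, ht]⟩
  obtain ⟨ξ, rfl⟩ := hm x hx'
  let m' : I ⊗[A] (B ⧸ N) →ₗ[A] B ⧸ N := TensorProduct.lift ((LinearMap.lsmul A (B ⧸ N)).comp I.subtype)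
  have hinj : Function.Injective m' := by
    have e : m' = (TensorProduct.lid A (B ⧸ N)).toLinearMap.comp (I.subtype.rTensor (B ⧸ N)) :=
      TensorProduct.ext' fun a b => rfl
    rw [e]
    exact (TensorProduct.lid A (B ⧸ N)).injective.comp
      (Module.Flat.rTensor_preserves_injective_linearMap I.subtype Subtype.val_injective)
  have hcomm : m'.comp (N.mkQ.lTensor I) = N.mkQ.comp m := TensorProduct.ext' fun a b => rfl
  have h0 : N.mkQ.lTensor I ξ = 0 := by
    refine hinj ((LinearMap.congr_fun hcomm ξ).trans ?_)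
    rw [map_zero, LinearMap.comp_apply, Submodule.mkQ_apply, Submodule.Quotient.mk_eq_zero]
    exact hxN
  obtain ⟨ζ, rfl⟩ := (lTensor_exact I (LinearMap.exact_subtype_mkQ N) N.mkQ_surjective ξ).mp h0
  suffices ∀ t, m (N.subtype.lTensor I t) ∈ I • N from this ζ
  intro t
  induction t using TensorProduct.induction_on with
  | zero => rw [map_zero, map_zero]; exact zero_mem _
  | tmul a n => exact Submodule.smul_mem_smul a.2 n.2
  | add t₁ t₂ h₁ h₂ => rw [map_add, map_add]; exact add_mem h₁ h₂

/-- Reduced fibres and flat reduction give reducedness. -/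
theorem isReduced_of_flat_reduction [IsNoetherianRing B] [Module.Flat A (B ⧸ nilradical B)]
    (hfib : ∀ p : PrimeSpectrum A, IsReduced (p.asIdeal.ResidueField ⊗[A] B)) : IsReduced B := by
  refine ⟨fun n hn => ?_⟩
  by_contra hne
  let J : Ideal B := (⊥ : Ideal B).colon {n}
  obtain ⟨q, hq, hJq⟩ := Ideal.exists_le_maximal J (fun h => hne (by
    have := (Ideal.eq_top_iff_one _).mp h
    rwa [Submodule.mem_colon_singleton, one_smul, Submodule.mem_bot] at this))
  let p : PrimeSpectrum A := ⟨q.comap (algebraMap A B), Ideal.IsPrime.comap _⟩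
  have key : ∀ m ∈ nilradical B, ∃ s : B, s ∉ q ∧ s * m ∈ q * nilradical B := by
    intro m hm
    haveI := hfib p
    have h0 : (1 : p.asIdeal.ResidueField) ⊗ₜ[A] m = 0 :=
      ((mem_nilradical.mp hm).map (Algebra.TensorProduct.includeRight (R := A) (A := p.asIdeal.ResidueField) (B := B))).eq_zero
    obtain ⟨a, ha, ham⟩ := exists_mul_mem_map h0
    refine ⟨algebraMap A B a, ha, ?_⟩
    haveI : Module.Flat A (B ⧸ (nilradical B).restrictScalars A) :=
      Module.Flat.of_linearEquiv (Submodule.Quotient.restrictScalarsEquiv A (nilradical B))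
    have h2 := mem_smul_of_mem_of_flat ((nilradical B).restrictScalars A) p.asIdeal ham
      (Ideal.mul_mem_left _ _ hm)
    refine Submodule.smul_induction_on h2 (fun c hc z hz => ?_) fun y z hy hz => add_mem hy hz
    rw [Algebra.smul_def]
    exact Ideal.mul_mem_mul hc hz
  obtain ⟨G, hG⟩ := IsNoetherian.noetherian (nilradical B)
  choose s hs hsm using fun g : G => key g.1 (hG.le (Submodule.subset_span g.2))
  let S := ∏ g : G, s g
  have hSq : S ∉ q := fun h => by
    obtain ⟨g, -, hg⟩ := hq.isPrime.prod_mem_iff.mp h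
    exact hs g hg
  have hSN : ∀ m ∈ nilradical B, S * m ∈ q * nilradical B := by
    intro m hm
    rw [← hG] at hm
    induction hm using Submodule.span_induction with
    | mem x hx =>
      obtain ⟨c, hc⟩ : s ⟨x, hx⟩ ∣ S := Finset.dvd_prod_of_mem s (Finset.mem_univ _)
      rw [hc, mul_right_comm, mul_comm _ c]
      exact Ideal.mul_mem_left _ _ (hsm ⟨x, hx⟩)
    | zero => rw [mul_zero]; exact zero_mem _
    | add x y _ _ hx hy => rw [mul_add]; exact add_mem hx hy
    | smul c x _ hx => rw [smul_eq_mul, mul_left_comm]; exact Ideal.mul_mem_left _ _ hx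
  let f : nilradical B →ₗ[B] nilradical B := LinearMap.lsmul B _ S
  have hrange : LinearMap.range f ≤ q • (⊤ : Submodule B (nilradical B)) := by
    rintro _ ⟨x, rfl⟩
    rw [Submodule.mem_smul_top_iff]
    exact hSN x.1 x.2
  haveI : Module.Finite B (nilradical B) := Module.Finite.iff_fg.mpr (IsNoetherian.noetherian _)
  obtain ⟨P, hPm, -, hP, hP0⟩ := LinearMap.exists_monic_and_natDegree_eq_and_coeff_mem_pow_and_aeval_eq_zero (R := B) (M := ↥(nilradical B)) f q hrange
  have hev : P.eval S * n = 0 := by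
    have h3 := congrArg Subtype.val (LinearMap.congr_fun hP0 ⟨n, mem_nilradical.mpr hn⟩)
    have h4 : Polynomial.aeval f P = (P.eval S) • LinearMap.id := by
      have : f = algebraMap B (Module.End B (nilradical B)) S := rfl
      rw [this, Polynomial.aeval_algebraMap_apply_eq_algebraMap_eval]
      rfl
    rw [h4] at h3
    exact h3
  have hmem : P.eval S ∈ q := hJq (by rw [Submodule.mem_colon_singleton, Submodule.mem_bot]; exact hev)
  refine hSq (hq.isPrime.mem_of_pow_mem P.natDegree ?_)
  rw [Polynomial.eval_eq_sum_range, Finset.sum_range_succ, hPm.coeff_natDegree, one_mul] at hmem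
  refine (Ideal.add_mem_iff_right q (Ideal.sum_mem _ fun i hi => ?_)).mp hmem
  exact Ideal.mul_mem_right _ _ (Ideal.pow_le_self (by rw [Finset.mem_range] at hi; omega) (hP i))

end GrothLib.AlgMisc
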