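import Groth.Agent.Lib.AlgMisc.GeomRedAt

/-!
# Points of two base changes dominated by a point of a common one; descent of normality
-/

set_option autoImplicit false
set_option backward.isDefEq.respectTransparency false
set_option linter.style.haveILetI false
universe u

open CategoryTheory CategoryTheory.Limits AlgebraicGeometry

namespace Groth.Agent.Lib.AlgMisc.GeomAtBC

theorem isDomain_and_isIntegrallyClosed_of_faithfullyFlat (A B : Type u) [CommRing A] [CommRing B]
    [Algebra A B] [Module.FaithfullyFlat A B] [IsDomain B] [IsIntegrallyClosed B] :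
    IsDomain A ∧ IsIntegrallyClosed A := by
  have hinj : Function.Injective (algebraMap A B) := FaithfulSMul.algebraMap_injective A B
  haveI : IsDomain A := hinj.isDomain (algebraMap A B)
  refine ⟨inferInstance, (isIntegrallyClosed_iff (FractionRing A)).mpr fun {x} hx => ?_⟩
  obtain ⟨a, b, hb, rfl⟩ := IsFractionRing.div_surjective (A := A) x
  let f : FractionRing A →+* FractionRing B :=
    IsFractionRing.lift (g := (algebraMap B (FractionRing B)).comp (algebraMap A B))
      ((IsFractionRing.injective B (FractionRing B)).comp hinj)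
  have hf : ∀ r : A, f (algebraMap A _ r) = algebraMap B _ (algebraMap A B r) :=
    fun r => IsFractionRing.lift_algebraMap _ r
  have hint : IsIntegral B (f (algebraMap A _ a / algebraMap A _ b)) := by
    obtain ⟨p, hp, hp0⟩ := hx
    refine ⟨p.map (algebraMap A B), hp.map _, ?_⟩
    rw [Polynomial.eval₂_map, show (algebraMap B (FractionRing B)).comp (algebraMap A B) =
      f.comp (algebraMap A (FractionRing A)) from RingHom.ext fun r => (hf r).symm,
      ← Polynomial.hom_eval₂, hp0, map_zero]
  obtain ⟨c, hc⟩ := IsIntegrallyClosed.isIntegral_iff.mp hint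
  have hb0 : algebraMap A (FractionRing A) b ≠ 0 :=
    IsFractionRing.to_map_ne_zero_of_mem_nonZeroDivisors hb
  have hbB : algebraMap B (FractionRing B) (algebraMap A B b) ≠ 0 := by
    rw [← hf]; exact (map_ne_zero f).mpr hb0
  have hab : algebraMap A B a = c * algebraMap A B b := by
    apply IsFractionRing.injective B (FractionRing B)
    rw [map_mul, hc, map_div₀, hf, hf, div_mul_cancel₀ _ hbB]
  have hmem : a ∈ Ideal.span {b} := by
    rw [← Ideal.comap_map_eq_self_of_faithfullyFlat (B := B) (Ideal.span {b}), Ideal.mem_comap, hab,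
      Ideal.map_span, Set.image_singleton]
    exact Ideal.mul_mem_left _ _ (Ideal.mem_span_singleton_self _)
  obtain ⟨d, rfl⟩ := Ideal.mem_span_singleton'.mp hmem
  exact ⟨d, by rw [map_mul, mul_div_assoc, div_self hb0, mul_one]⟩

/-- Points of `X_K` and `X_k'` over the same point of `X` are images of a point of a common base
change, along a morphism with injective flat local stalk map. -/
theorem exists_common_point (k : Type u) [Field k] (X : Scheme.{u}) [X.Over (Spec (CommRingCat.of k))]
    (K k' : Type u) [Field K] [Algebra k K] [Field k'] [Algebra k k']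
    (y : Curv2.bc k X K) (x' : Curv2.bc k X k')
    (h : Curv2.bcFst k X K y = Curv2.bcFst k X k' x') :
    letI : (Curv2.bc k X k').Over (Spec (CommRingCat.of k')) := ⟨Curv2.bcSnd k X k'⟩
    ∃ (L : Type u) (_ : Field L) (_ : Algebra k' L) (z : Curv2.bc k' (Curv2.bc k X k') L)
      (m : Curv2.bc k' (Curv2.bc k X k') L ⟶ Curv2.bc k X K),
      Flat m ∧ m z = y ∧ Curv2.bcFst k' (Curv2.bc k X k') L z = x' := by
  obtain ⟨w, hw1, hw2⟩ := Scheme.Pullback.exists_preimage_pullback y x' h
  let P := pullback (Curv2.bcFst k X K) (Curv2.bcFst k X k')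
  let s := P.fromSpecResidueField w
  let φK := Spec.preimage (s ≫ pullback.fst _ _ ≫ Curv2.bcSnd k X K)
  let φk := Spec.preimage (s ≫ pullback.snd _ _ ≫ Curv2.bcSnd k X k')
  letI algK : Algebra K (P.residueField w) := φK.hom.toAlgebra
  letI algk : Algebra k' (P.residueField w) := φk.hom.toAlgebra
  have hK : Spec.map (CommRingCat.ofHom (algebraMap K (P.residueField w))) =
      s ≫ pullback.fst _ _ ≫ Curv2.bcSnd k X K := Spec.map_preimage _
  have hk : Spec.map (CommRingCat.ofHom (algebraMap k' (P.residueField w))) =
      s ≫ pullback.snd _ _ ≫ Curv2.bcSnd k X k' := Spec.map_preimage _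
  letI : (Curv2.bc k X k').Over (Spec (CommRingCat.of k')) := ⟨Curv2.bcSnd k X k'⟩
  have hsq : Spec.map (CommRingCat.ofHom (algebraMap K (P.residueField w))) ≫
      Spec.map (CommRingCat.ofHom (algebraMap k K)) =
      Spec.map (CommRingCat.ofHom (algebraMap k' (P.residueField w))) ≫
      Spec.map (CommRingCat.ofHom (algebraMap k k')) := by
    rw [hK, hk]
    simp only [Category.assoc, ← pullback.condition]
    rw [pullback.condition_assoc]
  let ψ := Spec.map (CommRingCat.ofHom (algebraMap k' (P.residueField w)))
  have houter := (IsPullback.of_hasPullback (Curv2.bcSnd k X k') ψ).paste_horiz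
    (IsPullback.of_hasPullback (X ↘ Spec (CommRingCat.of k)) (Spec.map (CommRingCat.ofHom (algebraMap k k'))))
  rw [← hsq] at houter
  let m : pullback (Curv2.bcSnd k X k') ψ ⟶ Curv2.bc k X K :=
    pullback.lift (pullback.fst _ _ ≫ Curv2.bcFst k X k')
      (pullback.snd _ _ ≫ Spec.map (CommRingCat.ofHom (algebraMap K (P.residueField w))))
      (by rw [Category.assoc]; exact houter.w.trans (Category.assoc _ _ _).symm)
  have hm : IsPullback m (pullback.snd _ _) (Curv2.bcSnd k X K)
      (Spec.map (CommRingCat.ofHom (algebraMap K (P.residueField w)))) :=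
    IsPullback.of_right (by simpa [m] using houter) (by simp [m]) (IsPullback.of_hasPullback _ _)
  haveI : Flat (Spec.map (CommRingCat.ofHom (algebraMap K (P.residueField w)))) :=
    Flat.SpecMap_iff.mpr (RingHom.flat_algebraMap_iff.mpr inferInstance)
  let t : Spec (CommRingCat.of (P.residueField w)) ⟶ pullback (Curv2.bcSnd k X k') ψ :=
    pullback.lift (s ≫ pullback.snd _ _) (𝟙 _) (by rw [Category.assoc, Category.id_comp]; exact hk.symm)
  have htm : t ≫ m = s ≫ pullback.fst _ _ := by
    apply pullback.hom_ext
    · simp [t, m, ← pullback.condition]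
    · simp [t, m, hK]; rfl
  refine ⟨P.residueField w, inferInstance, algk, t (IsLocalRing.closedPoint _), m,
    MorphismProperty.of_isPullback hm.flip inferInstance, ?_, ?_⟩
  · refine (Eq.trans (congrArg (fun f : _ ⟶ Curv2.bc k X K => f (IsLocalRing.closedPoint _)) htm) ?_)
    exact (congrArg _ (Scheme.fromSpecResidueField_apply w _)).trans hw1
  · refine (Eq.trans (congrArg (fun f : _ ⟶ Curv2.bc k X k' => f (IsLocalRing.closedPoint _))
      (pullback.lift_fst (f := Curv2.bcSnd k X k') (g := ψ) _ _ _ : t ≫ pullback.fst _ _ = _)) ?_)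
    exact (congrArg _ (Scheme.fromSpecResidueField_apply w _)).trans hw2

/-- For finitely generated `K` the common base change can be taken finitely generated over `k'`. -/
theorem exists_common_point_fg (k : Type u) [Field k] (X : Scheme.{u}) [X.Over (Spec (CommRingCat.of k))]
    (K k' : Type u) [Field K] [Algebra k K] [Field k'] [Algebra k k']
    (hK : (⊤ : IntermediateField k K).FG)
    (y : Curv2.bc k X K) (x' : Curv2.bc k X k')
    (h : Curv2.bcFst k X K y = Curv2.bcFst k X k' x') :
    letI : (Curv2.bc k X k').Over (Spec (CommRingCat.of k')) := ⟨Curv2.bcSnd k X k'⟩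
    ∃ (L : Type u) (_ : Field L) (_ : Algebra k' L) (z : Curv2.bc k' (Curv2.bc k X k') L)
      (m : Curv2.bc k' (Curv2.bc k X k') L ⟶ Curv2.bc k X K),
      (⊤ : IntermediateField k' L).FG ∧
      Flat m ∧ m z = y ∧ Curv2.bcFst k' (Curv2.bc k X k') L z = x' := by
  classical
  obtain ⟨w, hw1, hw2⟩ := Scheme.Pullback.exists_preimage_pullback y x' h
  let P := pullback (Curv2.bcFst k X K) (Curv2.bcFst k X k')
  let s := P.fromSpecResidueField w
  let φK := Spec.preimage (s ≫ pullback.fst _ _ ≫ Curv2.bcSnd k X K)
  let φk := Spec.preimage (s ≫ pullback.snd _ _ ≫ Curv2.bcSnd k X k')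
  letI algK : Algebra K (P.residueField w) := φK.hom.toAlgebra
  letI algk : Algebra k' (P.residueField w) := φk.hom.toAlgebra
  have hK' : Spec.map (CommRingCat.ofHom (algebraMap K (P.residueField w))) =
      s ≫ pullback.fst _ _ ≫ Curv2.bcSnd k X K := Spec.map_preimage _
  have hk : Spec.map (CommRingCat.ofHom (algebraMap k' (P.residueField w))) =
      s ≫ pullback.snd _ _ ≫ Curv2.bcSnd k X k' := Spec.map_preimage _
  have hsq0 : Spec.map (CommRingCat.ofHom (algebraMap K (P.residueField w))) ≫
      Spec.map (CommRingCat.ofHom (algebraMap k K)) =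
      Spec.map (CommRingCat.ofHom (algebraMap k' (P.residueField w))) ≫
      Spec.map (CommRingCat.ofHom (algebraMap k k')) := by
    rw [hK', hk]
    simp only [Category.assoc, ← pullback.condition]
    rw [pullback.condition_assoc]
  rw [← Spec.map_comp, ← Spec.map_comp] at hsq0
  have hc : ∀ c : k, algebraMap K (P.residueField w) (algebraMap k K c) =
      algebraMap k' (P.residueField w) (algebraMap k k' c) :=
    fun c => congrArg (fun f => f.hom c) (Spec.map_injective hsq0)
  obtain ⟨S, hS⟩ := hK
  let L := IntermediateField.adjoin k' (algebraMap K (P.residueField w) '' (S : Set K))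
  have hmem : ∀ c : K, algebraMap K (P.residueField w) c ∈ L := by
    intro c
    have hc' : c ∈ IntermediateField.adjoin k (S : Set K) := hS ▸ IntermediateField.mem_top
    induction hc' using IntermediateField.adjoin_induction with
    | mem x hx => exact IntermediateField.subset_adjoin _ _ ⟨x, hx, rfl⟩
    | algebraMap x => rw [hc]; exact L.algebraMap_mem _
    | add x y _ _ hx hy => rw [map_add]; exact add_mem hx hy
    | inv x _ hx => rw [map_inv₀]; exact inv_mem hx
    | mul x y _ _ hx hy => rw [map_mul]; exact mul_mem hx hy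
  letI algKL : Algebra K L := ((algebraMap K (P.residueField w)).codRestrict L hmem).toAlgebra
  have hfg : (⊤ : IntermediateField k' L).FG := by
    rw [IntermediateField.fg_top_iff]
    exact IntermediateField.fg_top_iff.mp (IntermediateField.fg_top_iff.mpr
      (IntermediateField.essFiniteType_iff.mpr
        (IntermediateField.fg_def.mpr ⟨_, S.finite_toSet.image _, rfl⟩)))
  letI : (Curv2.bc k X k').Over (Spec (CommRingCat.of k')) := ⟨Curv2.bcSnd k X k'⟩
  have hsq : Spec.map (CommRingCat.ofHom (algebraMap K L)) ≫
      Spec.map (CommRingCat.ofHom (algebraMap k K)) =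
      Spec.map (CommRingCat.ofHom (algebraMap k' L)) ≫
      Spec.map (CommRingCat.ofHom (algebraMap k k')) := by
    rw [← Spec.map_comp, ← Spec.map_comp]
    congr 1
    exact CommRingCat.hom_ext (RingHom.ext fun c => Subtype.ext (hc c))
  let ψ := Spec.map (CommRingCat.ofHom (algebraMap k' L))
  let ι : Spec (CommRingCat.of (P.residueField w)) ⟶ Spec (CommRingCat.of L) :=
    Spec.map (CommRingCat.ofHom L.val.toRingHom)
  have hιk : ι ≫ ψ = s ≫ pullback.snd _ _ ≫ Curv2.bcSnd k X k' := by
    rw [← hk, ← Spec.map_comp]; rfl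
  have hιK : ι ≫ Spec.map (CommRingCat.ofHom (algebraMap K L)) =
      s ≫ pullback.fst _ _ ≫ Curv2.bcSnd k X K := by
    rw [← hK', ← Spec.map_comp]; rfl
  have houter := (IsPullback.of_hasPullback (Curv2.bcSnd k X k') ψ).paste_horiz
    (IsPullback.of_hasPullback (X ↘ Spec (CommRingCat.of k)) (Spec.map (CommRingCat.ofHom (algebraMap k k'))))
  rw [← hsq] at houter
  let m : pullback (Curv2.bcSnd k X k') ψ ⟶ Curv2.bc k X K :=
    pullback.lift (pullback.fst _ _ ≫ Curv2.bcFst k X k')
      (pullback.snd _ _ ≫ Spec.map (CommRingCat.ofHom (algebraMap K L)))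
      (by rw [Category.assoc]; exact houter.w.trans (Category.assoc _ _ _).symm)
  have hm : IsPullback m (pullback.snd _ _) (Curv2.bcSnd k X K)
      (Spec.map (CommRingCat.ofHom (algebraMap K L))) :=
    IsPullback.of_right (by simpa [m] using houter) (by simp [m]) (IsPullback.of_hasPullback _ _)
  haveI : Flat (Spec.map (CommRingCat.ofHom (algebraMap K L))) :=
    Flat.SpecMap_iff.mpr (RingHom.flat_algebraMap_iff.mpr inferInstance)
  let t : Spec (CommRingCat.of (P.residueField w)) ⟶ pullback (Curv2.bcSnd k X k') ψ :=
    pullback.lift (s ≫ pullback.snd _ _) ι (by rw [Category.assoc]; exact hιk.symm)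
  have htm : t ≫ m = s ≫ pullback.fst _ _ := by
    apply pullback.hom_ext
    · simp [t, m, ← pullback.condition]
    · simp [t, m, hιK]
  refine ⟨L, inferInstance, inferInstance, t (IsLocalRing.closedPoint _), m, hfg,
    MorphismProperty.of_isPullback hm.flip inferInstance, ?_, ?_⟩
  · refine (Eq.trans (congrArg (fun f : _ ⟶ Curv2.bc k X K => f (IsLocalRing.closedPoint _)) htm) ?_)
    exact (congrArg _ (Scheme.fromSpecResidueField_apply w _)).trans hw1
  · refine (Eq.trans (congrArg (fun f : _ ⟶ Curv2.bc k X k' => f (IsLocalRing.closedPoint _))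
      (pullback.lift_fst (f := Curv2.bcSnd k X k') (g := ψ) _ _ _ : t ≫ pullback.fst _ _ = _)) ?_)
    exact (congrArg _ (Scheme.fromSpecResidueField_apply w _)).trans hw2

end Groth.Agent.Lib.AlgMisc.GeomAtBC
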