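import Groth.Agent.Lib.AlgMisc.GeomRedAt
import Groth.Agent.Lib.NormalTensor.Main
import Mathlib

/-!
# Geometric normality at a point versus geometric normality of the local ring
-/

set_option autoImplicit false
set_option backward.isDefEq.respectTransparency false
set_option linter.style.haveILetI false
universe u

open CategoryTheory CategoryTheory.Limits AlgebraicGeometry
open scoped TensorProduct

namespace Groth.Agent.Lib.AlgMisc.GeomNormLocal

open GeomRedAt

/-- A normal domain. -/
def IsND (R : Type u) [CommRing R] : Prop := IsDomain R ∧ IsIntegrallyClosed R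

theorem isND_equiv {R S : Type u} [CommRing R] [CommRing S] (e : R ≃+* S) (h : IsND R) : IsND S := by
  obtain ⟨_, _⟩ := h
  exact ⟨e.symm.injective.isDomain, IsIntegrallyClosed.of_equiv e⟩

theorem isND_stalk_Spec_iff (A : CommRingCat.{u}) (w : Spec A) :
    IsND ((Spec A).presheaf.stalk w) ↔ IsND (Localization.AtPrime (PrimeSpectrum.asIdeal w)) := by
  letI : Algebra A ((Spec A).presheaf.stalk w) := StructureSheaf.stalkAlgebra (R := A) w
  haveI : IsLocalization (PrimeSpectrum.asIdeal w).primeCompl ((Spec A).presheaf.stalk w) :=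
    StructureSheaf.IsLocalization.to_stalk (R := A) w
  let e := (IsLocalization.algEquiv (PrimeSpectrum.asIdeal w).primeCompl ((Spec A).presheaf.stalk w)
    (Localization.AtPrime (PrimeSpectrum.asIdeal w))).toRingEquiv
  exact ⟨isND_equiv e, isND_equiv e.symm⟩

theorem isNormalRing_of_forall_isMaximal {R : Type u} [CommRing R]
    (h : ∀ (Q : Ideal R) [Q.IsMaximal], IsND (Localization.AtPrime Q)) : EGA4.IsNormalRing R := by
  intro P hP
  obtain ⟨Q, hQ, hPQ⟩ := Ideal.exists_le_maximal P hP.ne_top
  obtain ⟨_, _⟩ := h Q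
  let P' := P.map (algebraMap R (Localization.AtPrime Q))
  have hdisj : Disjoint (Q.primeCompl : Set R) P :=
    Set.disjoint_left.mpr fun r hr hrP => hr (hPQ hrP)
  haveI : P'.IsPrime := IsLocalization.isPrime_of_isPrime_disjoint Q.primeCompl _ P hP hdisj
  have hc : P'.comap (algebraMap R (Localization.AtPrime Q)) = P :=
    IsLocalization.comap_map_of_isPrime_disjoint Q.primeCompl _ hP hdisj
  exact GrothLib.Excellent.isNormalAt_congr hc
    ((GrothLib.Excellent.isNormalAt_localization Q.primeCompl P').1
      (GrothLib.NormalHom.isNormalRing_of_isDomain (Localization.AtPrime Q) P'))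

attribute [local instance] Curv2.stalkAlgebra

variable {k : Type u} [Field k] {X : Scheme.{u}} [X.Over (Spec (CommRingCat.of k))]

theorem isND_chart_iff (x : X) (B : Type u) [CommRing B] [Algebra k B]
    (ι : Spec (CommRingCat.of (X.presheaf.stalk x ⊗[k] B)) ⟶
      pullback (X ↘ Spec (CommRingCat.of k)) (Spec.map (CommRingCat.ofHom (algebraMap k B))))
    [Flat ι] [IsPreimmersion ι]
    (w : Spec (CommRingCat.of (X.presheaf.stalk x ⊗[k] B))) :
    IsND ((pullback (X ↘ Spec (CommRingCat.of k))
      (Spec.map (CommRingCat.ofHom (algebraMap k B)))).presheaf.stalk (ι w)) ↔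
      IsND (Localization.AtPrime (PrimeSpectrum.asIdeal w)) := by
  have hbij : Function.Bijective (ι.stalkMap w).hom := by
    refine ⟨?_, ι.stalkMap_surjective w⟩
    algebraize [(ι.stalkMap w).hom]
    haveI : Module.Flat _ _ := Flat.stalkMap ι w
    haveI : IsLocalHom (algebraMap ((pullback (X ↘ Spec (CommRingCat.of k))
        (Spec.map (CommRingCat.ofHom (algebraMap k B)))).presheaf.stalk (ι w))
        ((Spec (CommRingCat.of (X.presheaf.stalk x ⊗[k] B))).presheaf.stalk w)) :=
      inferInstanceAs (IsLocalHom (ι.stalkMap w).hom)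
    haveI := Module.FaithfullyFlat.of_flat_of_isLocalHom
      (A := (pullback (X ↘ Spec (CommRingCat.of k))
        (Spec.map (CommRingCat.ofHom (algebraMap k B)))).presheaf.stalk (ι w))
      (B := (Spec (CommRingCat.of (X.presheaf.stalk x ⊗[k] B))).presheaf.stalk w)
    exact FaithfulSMul.algebraMap_injective ((pullback (X ↘ Spec (CommRingCat.of k))
        (Spec.map (CommRingCat.ofHom (algebraMap k B)))).presheaf.stalk (ι w))
      ((Spec (CommRingCat.of (X.presheaf.stalk x ⊗[k] B))).presheaf.stalk w)
  rw [← isND_stalk_Spec_iff]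
  exact ⟨isND_equiv (RingEquiv.ofBijective _ hbij), isND_equiv (RingEquiv.ofBijective _ hbij).symm⟩

/-- Stalks of `X × Spec B` over generisations of `x` from normality of `O_x ⊗ B`. -/
theorem isND_stalk_of_isNormalRing (x : X) {B : Type u} [CommRing B] [Algebra k B]
    (h : EGA4.IsNormalRing (X.presheaf.stalk x ⊗[k] B))
    (z : ↥(pullback (X ↘ Spec (CommRingCat.of k)) (Spec.map (CommRingCat.ofHom (algebraMap k B)))))
    (hz : pullback.fst (X ↘ Spec (CommRingCat.of k)) (Spec.map (CommRingCat.ofHom (algebraMap k B))) z ⤳ x) :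
    IsND ((pullback (X ↘ Spec (CommRingCat.of k))
      (Spec.map (CommRingCat.ofHom (algebraMap k B)))).presheaf.stalk z) := by
  obtain ⟨ι, -, hι, hι', hr⟩ := exists_local_chart k X x B
  obtain ⟨w, rfl⟩ := hr z hz
  exact (isND_chart_iff x B ι w).mpr (h _)

theorem isNormalRing_tensor_stalk (x : X) (K : Type u) [Field K] [Algebra k K] [Algebra.IsIntegral k K]
    (h : ∀ x' : Curv2.bc k X K, Curv2.bcFst k X K x' = x →
      IsND ((Curv2.bc k X K).presheaf.stalk x')) :
    EGA4.IsNormalRing (X.presheaf.stalk x ⊗[k] K) := by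
  obtain ⟨ι, hfst, hι, hι', -⟩ := exists_local_chart k X x K
  refine isNormalRing_of_forall_isMaximal fun Q hQ => ?_
  let w : Spec (CommRingCat.of (X.presheaf.stalk x ⊗[k] K)) := ⟨Q, hQ.isPrime⟩
  have hw : Curv2.bcFst k X K (ι w) = x := by
    rw [← Scheme.Hom.comp_apply, hfst, Scheme.Hom.comp_apply]
    have : (Spec.map (CommRingCat.ofHom
        (algebraMap (X.presheaf.stalk x) (X.presheaf.stalk x ⊗[k] K))) w) = IsLocalRing.closedPoint _ := by
      haveI : (Q.comap (algebraMap (X.presheaf.stalk x) (X.presheaf.stalk x ⊗[k] K))).IsMaximal :=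
        Ideal.isMaximal_comap_of_isIntegral_of_isMaximal Q
      exact PrimeSpectrum.ext (IsLocalRing.eq_maximalIdeal this)
    exact (congrArg (X.fromSpecStalk x) this).trans Scheme.fromSpecStalk_closedPoint
  exact (isND_chart_iff x K ι w).mp (h _ hw)

theorem isGeomNormal_stalk (x : X)
    (h : ∀ (k' : Type u) [Field k'] [Algebra k k'] [FiniteDimensional k k'] [IsPurelyInseparable k k']
      (x' : Curv2.bc k X k'), Curv2.bcFst k X k' x' = x → IsND ((Curv2.bc k X k').presheaf.stalk x')) :
    EGA4.IsGeomNormal k (X.presheaf.stalk x) := by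
  refine GrothLib.NormalHom.isGeomNormal_of_purelyInseparable fun k' _ _ hfin hins => ?_
  haveI := hfin
  haveI := hins
  exact GrothLib.Excellent.isNormalRing_congr (Algebra.TensorProduct.comm k (X.presheaf.stalk x) k').toRingEquiv
    (isNormalRing_tensor_stalk x k' fun x' hx' => h k' x' hx')

end Groth.Agent.Lib.AlgMisc.GeomNormLocal
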