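import Groth.Agent.Lib.GrpSchField.ReducedProd
import Groth.Agent.Lib.FFDesc.Basic
import Groth.Prelude.Def_Curv2
import Mathlib

/-!
# Geometrically reduced points versus geometrically reduced local rings
-/

set_option autoImplicit false
set_option backward.isDefEq.respectTransparency false
set_option linter.style.haveILetI false
universe u

open CategoryTheory CategoryTheory.Limits AlgebraicGeometry
open scoped TensorProduct

namespace Groth.Agent.Lib.AlgMisc.GeomRedAt

section ring

variable {k A : Type u} [Field k] [CommRing A] [Algebra k A]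

/-- If `A` is reduced and the localizations of `A ⊗ k̄` over minimal primes of `A` are reduced,
then so is `A ⊗ K`. -/
theorem isReduced_tensor_of_minimalPrimes [_root_.IsReduced A] (K : Type u) [Field K] [Algebra k K]
    (h : ∀ q ∈ minimalPrimes A, ∀ (Q : Ideal (A ⊗[k] K)) [Q.IsPrime],
      Q.comap (algebraMap A (A ⊗[k] K)) = q → _root_.IsReduced (Localization.AtPrime Q)) :
    _root_.IsReduced (A ⊗[k] K) := by
  classical
  refine ⟨fun c hc => ?_⟩
  let e := Module.Free.chooseBasis k K
  obtain ⟨b, rfl⟩ := TensorProduct.eq_repr_basis_right e c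
  set c := b.sum fun i m => m ⊗ₜ[k] e i
  suffices ∀ i, b i = 0 by
    change c = 0
    simp only [c, show b = 0 from Finsupp.ext this, Finsupp.sum_zero_index]
  intro i
  apply IsNilpotent.eq_zero
  rw [← mem_nilradical, nilradical, Ideal.radical_eq_sInf]
  have key : ∀ q ∈ minimalPrimes A, b i ∈ q := by
    intro q hq
    haveI : q.IsPrime := hq.1.1
    let I : Ideal (A ⊗[k] K) := q.map (algebraMap A (A ⊗[k] K))
    let J : Ideal (A ⊗[k] K) := (Submodule.colon (⊥ : Ideal (A ⊗[k] K)) {c}) ⊔ I
    by_cases hd : Disjoint (J : Set (A ⊗[k] K))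
        ((Submonoid.map (algebraMap A (A ⊗[k] K)) q.primeCompl : Submonoid (A ⊗[k] K)) : Set (A ⊗[k] K))
    · exfalso
      obtain ⟨Q, hQ, hJQ, hQd⟩ := Ideal.exists_le_prime_disjoint J _ hd
      have hcomap : Q.comap (algebraMap A (A ⊗[k] K)) = q := by
        apply le_antisymm
        · intro a ha
          by_contra haq
          exact Set.disjoint_left.mp hQd ha ⟨a, haq, rfl⟩
        · exact Ideal.map_le_iff_le_comap.mp (le_sup_right.trans hJQ)
      haveI := h q hq Q hcomap
      have hz : algebraMap _ (Localization.AtPrime Q) c = 0 := (hc.map _).eq_zero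
      obtain ⟨t, ht⟩ := (IsLocalization.map_eq_zero_iff Q.primeCompl _ _).mp hz
      refine t.2 (hJQ (Ideal.mem_sup_left ?_))
      rw [Submodule.mem_colon_singleton, smul_eq_mul, Ideal.mem_bot, ht]
    · rw [Set.not_disjoint_iff] at hd
      obtain ⟨_, hJ, u, hu, rfl⟩ := hd
      obtain ⟨r, hr, s, hs, hrs⟩ := Submodule.mem_sup.mp hJ
      rw [Submodule.mem_colon_singleton, smul_eq_mul, Ideal.mem_bot] at hr
      have hmem : algebraMap A (A ⊗[k] K) u * c ∈ I := by
        rw [← hrs, add_mul, hr, zero_add]
        exact I.mul_mem_right _ hs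
      let π : A ⊗[k] K →ₐ[k] (A ⧸ q) ⊗[k] K :=
        Algebra.TensorProduct.map (Ideal.Quotient.mkₐ k q) (AlgHom.id k K)
      have hI : ∀ x ∈ I, π x = 0 := by
        intro x hx
        have : I ≤ RingHom.ker π := by
          rw [Ideal.map_le_iff_le_comap]
          intro a ha
          simp [π, Algebra.TensorProduct.algebraMap_apply, Ideal.Quotient.eq_zero_iff_mem.mpr ha]
        exact this hx
      have h0 := hI _ hmem
      have h1 : (b.mapRange (fun x => Ideal.Quotient.mk q (u * x)) (by simp)).sum
          (fun i m => m ⊗ₜ[k] e i) = 0 := by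
        rw [← h0, Finsupp.sum_mapRange_index (fun i => by rw [TensorProduct.zero_tmul])]
        simp only [c, Finsupp.sum, Finset.mul_sum, map_sum]
        refine Finset.sum_congr rfl fun j _ => ?_
        simp [π, Algebra.TensorProduct.algebraMap_apply]
      have h2 := DFunLike.congr_fun (TensorProduct.sum_tmul_basis_right_eq_zero e _ h1) i
      rw [Finsupp.mapRange_apply, Finsupp.zero_apply, Ideal.Quotient.eq_zero_iff_mem] at h2
      exact ((Ideal.IsPrime.mem_or_mem inferInstance h2).resolve_left hu)
  rw [Submodule.mem_sInf]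
  rintro p ⟨-, hp⟩
  haveI : Ideal.IsPrime p := hp
  obtain ⟨q, hq, hqp⟩ := Ideal.exists_minimalPrimes_le (I := (⊥ : Ideal A)) (J := p) bot_le
  exact hqp (key q hq)

theorem isGeometricallyReduced_of_isReduced_perfect (P : Type u) [Field P] [PerfectField P]
    [Algebra k P] [Algebra P (AlgebraicClosure k)] [IsScalarTower k P (AlgebraicClosure k)]
    [_root_.IsReduced (A ⊗[k] P)] : Algebra.IsGeometricallyReduced k A := by
  haveI : _root_.IsReduced (P ⊗[k] A) :=
    isReduced_of_injective (Algebra.TensorProduct.comm k P A) (Algebra.TensorProduct.comm k P A).injective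
  haveI : Algebra.IsGeometricallyReduced P (P ⊗[k] A) :=
    GrothLib.GrpSchField.isGeometricallyReduced_of_isReduced (K := P) (B := P ⊗[k] A)
  haveI : _root_.IsReduced (AlgebraicClosure k ⊗[P] (P ⊗[k] A)) :=
    GrothLib.GrpSchField.isReduced_tensorProduct
  rw [Algebra.isGeometricallyReduced_field_iff]
  exact isReduced_of_injective (Algebra.TensorProduct.cancelBaseChange k P P (AlgebraicClosure k) A).symm
    (Algebra.TensorProduct.cancelBaseChange k P P (AlgebraicClosure k) A).symm.injective

/-- Geometric reducedness can be tested on finite purely inseparable extensions. -/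
theorem isGeometricallyReduced_of_purelyInseparable (p : ℕ) [Fact p.Prime] [CharP k p]
    (h : ∀ (k' : Type u) [Field k'] [Algebra k k'] [FiniteDimensional k k'] [IsPurelyInseparable k k'],
      _root_.IsReduced (A ⊗[k] k')) : Algebra.IsGeometricallyReduced k A := by
  let Ω := AlgebraicClosure k
  let P := perfectClosure k Ω
  haveI : ExpChar k p := ExpChar.prime Fact.out
  haveI : PerfectField P := inferInstance
  haveI : _root_.IsReduced (A ⊗[k] P) := by
    refine IsReduced.tensorProduct_of_flat_of_forall_fg fun C hC => ?_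
    haveI : Algebra.IsIntegral k C := Algebra.IsIntegral.of_injective C.val Subtype.val_injective
    haveI : Algebra.FiniteType k C := ⟨(Subalgebra.fg_top C).2 hC⟩
    haveI : Module.Finite k C := Algebra.IsIntegral.finite
    haveI : IsDomain C := inferInstance
    let hF : IsField C := isField_of_isIntegral_of_isField' (Field.toIsField k)
    letI : Field C := hF.toField
    haveI : IsPurelyInseparable k C := by
      rw [isPurelyInseparable_iff_pow_mem k p]
      intro c
      obtain ⟨n, r, hr⟩ := IsPurelyInseparable.pow_mem k p (c : P)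
      exact ⟨n, r, Subtype.ext (by simpa using hr)⟩
    exact h C
  exact isGeometricallyReduced_of_isReduced_perfect P

end ring

section scheme

attribute [local instance] Curv2.stalkAlgebra

variable (k : Type u) [Field k] (X : Scheme.{u}) [X.Over (Spec (CommRingCat.of k))]

theorem fromSpecStalk_over (x : X) :
    X.fromSpecStalk x ≫ (X ↘ Spec (CommRingCat.of k)) =
      Spec.map (CommRingCat.ofHom (algebraMap k (X.presheaf.stalk x))) := by
  refine ext_of_isAffine ?_
  rw [Scheme.Hom.comp_appTop, Scheme.fromSpecStalk_appTop,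
    ← cancel_epi (Scheme.ΓSpecIso (CommRingCat.of k)).inv, ← Scheme.ΓSpecIso_inv_naturality]
  rfl

/-- The localisation `Spec (O_x ⊗ B) ⟶ X × Spec B`. -/
theorem exists_local_chart (x : X) (B : Type u) [CommRing B] [Algebra k B] :
    ∃ ι : Spec (CommRingCat.of (X.presheaf.stalk x ⊗[k] B)) ⟶
        pullback (X ↘ Spec (CommRingCat.of k)) (Spec.map (CommRingCat.ofHom (algebraMap k B))),
      (ι ≫ pullback.fst _ _ = Spec.map (CommRingCat.ofHom
        (algebraMap (X.presheaf.stalk x) (X.presheaf.stalk x ⊗[k] B))) ≫ X.fromSpecStalk x) ∧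
      Flat ι ∧ IsPreimmersion ι ∧
      ∀ z, pullback.fst (X ↘ Spec (CommRingCat.of k)) (Spec.map (CommRingCat.ofHom (algebraMap k B))) z ⤳ x → z ∈ Set.range ι := by
  let m := pullback.map (X.fromSpecStalk x ≫ (X ↘ Spec (CommRingCat.of k)))
    (Spec.map (CommRingCat.ofHom (algebraMap k B))) (X ↘ Spec (CommRingCat.of k))
    (Spec.map (CommRingCat.ofHom (algebraMap k B))) (X.fromSpecStalk x) (𝟙 _) (𝟙 _) (by simp) (by simp)
  have hm : IsPullback (pullback.fst _ _) m (X.fromSpecStalk x) (pullback.fst _ _) :=
    (IsPullback.of_right (by simpa [m] using (IsPullback.of_hasPullback (X.fromSpecStalk x ≫ (X ↘ Spec (CommRingCat.of k)))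
      (Spec.map (CommRingCat.ofHom (algebraMap k B)))).flip) (by simp [m]) (IsPullback.of_hasPullback _ _).flip).flip
  haveI : Flat m := MorphismProperty.of_isPullback hm (GrothLib.FFDesc.flat_fromSpecStalk' X x)
  haveI : IsPreimmersion m := MorphismProperty.of_isPullback hm inferInstance
  let e := pullback.congrHom (fromSpecStalk_over k X x)
    (rfl : Spec.map (CommRingCat.ofHom (algebraMap k B)) = _) ≪≫ pullbackSpecIso k (X.presheaf.stalk x) B
  refine ⟨e.inv ≫ m, ?_, inferInstance, inferInstance, ?_⟩
  · simp only [Category.assoc, m, pullback.lift_fst, e, Iso.trans_inv, pullback.congrHom_inv,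
      pullback.map]
    rw [pullback.lift_fst_assoc]
    simp only [Category.assoc, Category.id_comp, pullbackSpecIso_inv_fst_assoc]
    rfl
  · intro z hz
    have hz' : pullback.fst (X ↘ Spec (CommRingCat.of k)) (Spec.map (CommRingCat.ofHom (algebraMap k B))) z ∈ Set.range (X.fromSpecStalk x) := by
      rw [Scheme.range_fromSpecStalk]; exact hz
    obtain ⟨t, ht⟩ := hz'
    obtain ⟨w, -, hw⟩ := Scheme.exists_preimage_of_isPullback hm t z ht
    refine ⟨e.hom w, ?_⟩
    rw [← Scheme.Hom.comp_apply, e.hom_inv_id_assoc, hw]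

variable {k X}

/-- Reducedness at a point of a product whose image specialises to a point with geometrically
reduced local ring, affine second factor. -/
theorem isReduced_stalk_of_affine (x : X) [Algebra.IsGeometricallyReduced k (X.presheaf.stalk x)]
    {B : Type u} [CommRing B] [Algebra k B] [_root_.IsReduced B]
    (z : ↥(pullback (X ↘ Spec (CommRingCat.of k)) (Spec.map (CommRingCat.ofHom (algebraMap k B)))))
    (hz : pullback.fst (X ↘ Spec (CommRingCat.of k)) (Spec.map (CommRingCat.ofHom (algebraMap k B))) z ⤳ x) : _root_.IsReduced ((pullback (X ↘ Spec (CommRingCat.of k))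
      (Spec.map (CommRingCat.ofHom (algebraMap k B)))).presheaf.stalk z) := by
  obtain ⟨ι, -, hι, -, hr⟩ := exists_local_chart k X x B
  obtain ⟨w, rfl⟩ := hr z hz
  haveI : _root_.IsReduced (B ⊗[k] X.presheaf.stalk x) := GrothLib.GrpSchField.isReduced_tensorProduct
  haveI : _root_.IsReduced (CommRingCat.of (X.presheaf.stalk x ⊗[k] B)) :=
    isReduced_of_injective (Algebra.TensorProduct.comm k (X.presheaf.stalk x) B)
      (Algebra.TensorProduct.comm k (X.presheaf.stalk x) B).injective
  haveI : IsReduced (Spec (CommRingCat.of (X.presheaf.stalk x ⊗[k] B))) := inferInstance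
  algebraize [(ι.stalkMap w).hom]
  haveI : Module.Flat _ _ := Flat.stalkMap ι w
  haveI : IsLocalHom (algebraMap ((pullback (X ↘ Spec (CommRingCat.of k))
      (Spec.map (CommRingCat.ofHom (algebraMap k B)))).presheaf.stalk (ι w))
      ((Spec (CommRingCat.of (X.presheaf.stalk x ⊗[k] B))).presheaf.stalk w)) :=
    inferInstanceAs (IsLocalHom (ι.stalkMap w).hom)
  haveI := Module.FaithfullyFlat.of_flat_of_isLocalHom
    (A := (pullback (X ↘ Spec (CommRingCat.of k))
      (Spec.map (CommRingCat.ofHom (algebraMap k B)))).presheaf.stalk (ι w))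
    (B := (Spec (CommRingCat.of (X.presheaf.stalk x ⊗[k] B))).presheaf.stalk w)
  exact isReduced_of_injective (ι.stalkMap w).hom
    (FaithfulSMul.algebraMap_injective ((pullback (X ↘ Spec (CommRingCat.of k))
      (Spec.map (CommRingCat.ofHom (algebraMap k B)))).presheaf.stalk (ι w))
      ((Spec (CommRingCat.of (X.presheaf.stalk x ⊗[k] B))).presheaf.stalk w))

theorem isGeomReducedAt_of_specializes {x x' : X} (h : x' ⤳ x)
    [Algebra.IsGeometricallyReduced k (X.presheaf.stalk x)] : Curv2.IsGeomReducedAt k X x' := by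
  intro K _ _ z hz
  exact isReduced_stalk_of_affine x z (hz ▸ h)

/-- The product with a reduced scheme is reduced at points over a point with geometrically
reduced local ring. -/
theorem isReduced_stalk_pullback (Y : Scheme.{u}) (g : Y ⟶ Spec (CommRingCat.of k)) [IsReduced Y]
    (x : X) [Algebra.IsGeometricallyReduced k (X.presheaf.stalk x)]
    (z : ↥(pullback (X ↘ Spec (CommRingCat.of k)) g))
    (hz : pullback.fst (X ↘ Spec (CommRingCat.of k)) g z ⤳ x) :
    _root_.IsReduced ((pullback (X ↘ Spec (CommRingCat.of k)) g).presheaf.stalk z) := by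
  let 𝒰 := Scheme.Pullback.openCoverOfRight Y.affineOpenCover.openCover (X ↘ Spec (CommRingCat.of k)) g
  obtain ⟨i, w, rfl⟩ := 𝒰.exists_eq z
  haveI : _root_.IsReduced (Y.affineOpenCover.X i) :=
    (affine_isReduced_iff _).1 (isReduced_of_isOpenImmersion (Y.affineOpenCover.f i))
  let ψ := Spec.preimage (Y.affineOpenCover.f i ≫ g)
  algebraize [ψ.hom]
  have hg : Y.affineOpenCover.openCover.f i ≫ g =
      Spec.map (CommRingCat.ofHom (algebraMap k (Y.affineOpenCover.X i))) := (Spec.map_preimage _).symm
  let e := pullback.congrHom (rfl : (X ↘ Spec (CommRingCat.of k)) = _) hg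
  have hfst : (e.hom ≫ pullback.fst _ _) w = pullback.fst (X ↘ Spec (CommRingCat.of k)) g (𝒰.f i w) := by
    rw [← Scheme.Hom.comp_apply]
    congr 2
    simp [e, 𝒰]
  rw [← hfst, Scheme.Hom.comp_apply] at hz
  haveI := isReduced_stalk_of_affine x (e.hom w) hz
  haveI : _root_.IsReduced ((𝒰.X i).presheaf.stalk w) :=
    isReduced_of_injective (asIso (e.hom.stalkMap w)).commRingCatIsoToRingEquiv.symm
      (asIso (e.hom.stalkMap w)).commRingCatIsoToRingEquiv.symm.injective
  exact isReduced_of_injective (asIso ((𝒰.f i).stalkMap w)).commRingCatIsoToRingEquiv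
    (asIso ((𝒰.f i).stalkMap w)).commRingCatIsoToRingEquiv.injective

/-- If all points over `x` in the base change to an algebraic extension are reduced, the tensor
product of the local ring with the extension is reduced. -/
theorem isReduced_tensor_stalk (x : X) (K : Type u) [Field K] [Algebra k K] [Algebra.IsIntegral k K]
    (h : ∀ x' : Curv2.bc k X K, Curv2.bcFst k X K x' = x →
      _root_.IsReduced ((Curv2.bc k X K).presheaf.stalk x')) :
    _root_.IsReduced (X.presheaf.stalk x ⊗[k] K) := by
  obtain ⟨ι, hfst, hι, hι', -⟩ := exists_local_chart k X x K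
  refine isReduced_ofLocalizationMaximal _ fun Q hQ => ?_
  let R := CommRingCat.of (X.presheaf.stalk x ⊗[k] K)
  let w : Spec R := ⟨Q, hQ.isPrime⟩
  haveI hA : Algebra.IsIntegral (X.presheaf.stalk x) (X.presheaf.stalk x ⊗[k] K) := inferInstance
  have hw : Curv2.bcFst k X K (ι w) = x := by
    rw [← Scheme.Hom.comp_apply, hfst, Scheme.Hom.comp_apply]
    have : (Spec.map (CommRingCat.ofHom
        (algebraMap (X.presheaf.stalk x) (X.presheaf.stalk x ⊗[k] K))) w) = IsLocalRing.closedPoint _ := by
      haveI : (Q.comap (algebraMap (X.presheaf.stalk x) (X.presheaf.stalk x ⊗[k] K))).IsMaximal :=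
        Ideal.isMaximal_comap_of_isIntegral_of_isMaximal Q
      exact PrimeSpectrum.ext (IsLocalRing.eq_maximalIdeal this)
    exact (congrArg (X.fromSpecStalk x) this).trans Scheme.fromSpecStalk_closedPoint
  haveI := h _ hw
  haveI : _root_.IsReduced ((Spec R).presheaf.stalk w) := by
    have hbij : Function.Bijective (ι.stalkMap w).hom := by
      refine ⟨?_, ι.stalkMap_surjective w⟩
      algebraize [(ι.stalkMap w).hom]
      haveI : Module.Flat _ _ := Flat.stalkMap ι w
      haveI : IsLocalHom (algebraMap ((Curv2.bc k X K).presheaf.stalk (ι w))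
          ((Spec R).presheaf.stalk w)) :=
        inferInstanceAs (IsLocalHom (ι.stalkMap w).hom)
      haveI := Module.FaithfullyFlat.of_flat_of_isLocalHom
        (A := (Curv2.bc k X K).presheaf.stalk (ι w)) (B := (Spec R).presheaf.stalk w)
      exact FaithfulSMul.algebraMap_injective ((Curv2.bc k X K).presheaf.stalk (ι w))
          ((Spec R).presheaf.stalk w)
    exact isReduced_of_injective (RingEquiv.ofBijective _ hbij).symm
      (RingEquiv.ofBijective _ hbij).symm.injective
  letI : Algebra (X.presheaf.stalk x ⊗[k] K) ((Spec R).presheaf.stalk w) :=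
    StructureSheaf.stalkAlgebra (R := R) w
  haveI : IsLocalization Q.primeCompl ((Spec R).presheaf.stalk w) :=
    StructureSheaf.IsLocalization.to_stalk (R := R) w
  let e : Localization.AtPrime Q ≃+* (Spec R).presheaf.stalk w :=
    (IsLocalization.algEquiv Q.primeCompl (Localization.AtPrime Q)
      ((Spec R).presheaf.stalk w)).toRingEquiv
  exact isReduced_of_injective e e.injective

theorem isGeometricallyReduced_stalk (x : X) (h : Curv2.IsGeomReducedAt k X x) :
    Algebra.IsGeometricallyReduced k (X.presheaf.stalk x) := by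
  rw [Algebra.isGeometricallyReduced_field_iff]
  haveI := isReduced_tensor_stalk x (AlgebraicClosure k) fun x' hx' => h _ x' hx'
  exact isReduced_of_injective (Algebra.TensorProduct.comm k (AlgebraicClosure k) (X.presheaf.stalk x))
    (Algebra.TensorProduct.comm k (AlgebraicClosure k) (X.presheaf.stalk x)).injective

theorem geometricallyReduced_of_forall
    (h : ∀ x : X, Algebra.IsGeometricallyReduced k (X.presheaf.stalk x)) :
    GeometricallyReduced (X ↘ Spec (CommRingCat.of k)) := by
  rw [geometricallyReduced_iff, geometrically_iff_of_commRing_of_isClosedUnderIsomorphisms]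
  intro K _ _
  haveI : ∀ z, _root_.IsReduced ((pullback (X ↘ Spec (CommRingCat.of k))
      (Spec.map (CommRingCat.ofHom (algebraMap k K)))).presheaf.stalk z) := fun z =>
    haveI := h (pullback.fst (X ↘ Spec (CommRingCat.of k)) (Spec.map (CommRingCat.ofHom (algebraMap k K))) z)
    isReduced_stalk_of_affine _ z specializes_rfl
  exact isReduced_of_isReduced_stalk _

theorem isGeomReducedAt_of_geometricallyReduced [GeometricallyReduced (X ↘ Spec (CommRingCat.of k))]
    (x : X) : Curv2.IsGeomReducedAt k X x := by
  intro K _ _ z _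
  haveI : IsReduced (Curv2.bc k X K) :=
    ‹GeometricallyReduced (X ↘ Spec (CommRingCat.of k))›.geometrically_isReduced _ _ _ (.of_hasPullback _ _)
  infer_instance

end scheme

end Groth.Agent.Lib.AlgMisc.GeomRedAt

namespace Groth.Agent.Lib.AlgMisc.GeomRedAt

variable {k : Type u} [Field k] {X : Scheme.{u}} [X.Over (Spec (CommRingCat.of k))]

/-- A reduced scheme geometrically reduced at its maximal points is geometrically reduced. -/
theorem geometricallyReduced_of_maximalPoints [IsReduced X]
    (h : ∀ η : X, (∀ y : X, y ⤳ η → η ⤳ y) → Curv2.IsGeomReducedAt k X η) :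
    GeometricallyReduced (X ↘ Spec (CommRingCat.of k)) := by
  rw [geometricallyReduced_iff, geometrically_iff_of_commRing_of_isClosedUnderIsomorphisms]
  intro K _ _
  apply +allowSynthFailures @IsReduced.of_openCover
    (𝒰 := Scheme.Pullback.openCoverOfLeft X.affineOpenCover.openCover (X ↘ Spec (CommRingCat.of k))
      (Spec.map (CommRingCat.ofHom (algebraMap k K))))
  intro a
  suffices key : ∀ (A : CommRingCat.{u}) (j : Spec A ⟶ X) [IsOpenImmersion j],
      IsReduced (pullback (j ≫ (X ↘ Spec (CommRingCat.of k)))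
        (Spec.map (CommRingCat.ofHom (algebraMap k K)))) from
    key _ _
  intro A j _
  haveI : _root_.IsReduced A := (affine_isReduced_iff _).1 (isReduced_of_isOpenImmersion j)
  let φ := Spec.preimage (j ≫ (X ↘ Spec (CommRingCat.of k)))
  algebraize [φ.hom]
  have hj : j ≫ (X ↘ Spec (CommRingCat.of k)) = Spec.map (CommRingCat.ofHom (algebraMap k A)) :=
    (Spec.map_preimage _).symm
  let m := pullback.map (j ≫ (X ↘ Spec (CommRingCat.of k)))
    (Spec.map (CommRingCat.ofHom (algebraMap k K))) (X ↘ Spec (CommRingCat.of k))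
    (Spec.map (CommRingCat.ofHom (algebraMap k K))) j (𝟙 _) (𝟙 _) (by simp) (by simp)
  have hm : IsPullback (pullback.fst _ _) m j (pullback.fst _ _) :=
    (IsPullback.of_right (by simpa [m] using (IsPullback.of_hasPullback (j ≫ (X ↘ Spec (CommRingCat.of k)))
      (Spec.map (CommRingCat.ofHom (algebraMap k K)))).flip) (by simp [m]) (IsPullback.of_hasPullback _ _).flip).flip
  haveI : IsOpenImmersion m := MorphismProperty.of_isPullback hm inferInstance
  let e := pullback.congrHom hj (rfl : Spec.map (CommRingCat.ofHom (algebraMap k K)) = _) ≪≫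
    pullbackSpecIso k A K
  haveI : _root_.IsReduced (CommRingCat.of ((A : Type u) ⊗[k] K)) := by
    refine isReduced_tensor_of_minimalPrimes (A := A) K fun q hq Q _ hQ => ?_
    haveI : q.IsPrime := hq.1.1
    let w : Spec (CommRingCat.of ((A : Type u) ⊗[k] K)) := ⟨Q, inferInstance⟩
    let qq : Spec A := ⟨q, inferInstance⟩
    have hmax : ∀ y : X, y ⤳ j qq → j qq ⤳ y := by
      intro y hy
      obtain ⟨t, rfl⟩ : y ∈ Set.range j :=
        hy.mem_open j.isOpenEmbedding.isOpen_range (Set.mem_range_self _)
      have h1 : t ⤳ qq := j.isOpenEmbedding.isEmbedding.specializes_iff.mp hy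
      have h2 : t.asIdeal ≤ q := (PrimeSpectrum.le_iff_specializes t qq).mpr h1
      have : t = qq := PrimeSpectrum.ext (le_antisymm h2 (hq.2 ⟨t.isPrime, bot_le⟩ h2))
      rw [this]
    have hw : Curv2.bcFst k X K ((e.inv ≫ m) w) = j qq := by
      have : (e.inv ≫ m) ≫ Curv2.bcFst k X K =
          Spec.map (CommRingCat.ofHom (algebraMap A ((A : Type u) ⊗[k] K))) ≫ j := by
        simp only [Category.assoc, m, pullback.lift_fst, e, Iso.trans_inv, pullback.congrHom_inv,
          pullback.map]
        rw [pullback.lift_fst_assoc]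
        simp only [Category.assoc, Category.id_comp, pullbackSpecIso_inv_fst_assoc]
        rfl
      rw [← Scheme.Hom.comp_apply, this, Scheme.Hom.comp_apply]
      exact congrArg j (PrimeSpectrum.ext hQ)
    haveI := h _ hmax K _ hw
    letI : Algebra ((A : Type u) ⊗[k] K) ((Spec (CommRingCat.of ((A : Type u) ⊗[k] K))).presheaf.stalk w) :=
      StructureSheaf.stalkAlgebra (R := (A : Type u) ⊗[k] K) w
    haveI : IsLocalization Q.primeCompl ((Spec (CommRingCat.of ((A : Type u) ⊗[k] K))).presheaf.stalk w) :=
      StructureSheaf.IsLocalization.to_stalk (R := (A : Type u) ⊗[k] K) w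
    haveI : _root_.IsReduced ((Spec (CommRingCat.of ((A : Type u) ⊗[k] K))).presheaf.stalk w) :=
      isReduced_of_injective (asIso ((e.inv ≫ m).stalkMap w)).commRingCatIsoToRingEquiv.symm
        (asIso ((e.inv ≫ m).stalkMap w)).commRingCatIsoToRingEquiv.symm.injective
    exact isReduced_of_injective (IsLocalization.algEquiv Q.primeCompl (Localization.AtPrime Q)
      ((Spec (CommRingCat.of ((A : Type u) ⊗[k] K))).presheaf.stalk w)).toRingEquiv (RingEquiv.injective _)
  exact isReduced_of_isOpenImmersion e.hom

end Groth.Agent.Lib.AlgMisc.GeomRedAt
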