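import Groth.Agent.Lib.LocProp.GeomRegular
import Groth.Agent.Lib.LocProp.RegularSmooth
import Groth.Agent.Lib.LocProp.SmoothRegularScheme
import Groth.Prelude.Def_Curv2
import Mathlib

/-!
# Regular points of smooth schemes over a field, and smoothness at geometrically regular points
-/

set_option autoImplicit false
set_option backward.isDefEq.respectTransparency false
set_option linter.style.haveILetI false
universe u

open CategoryTheory CategoryTheory.Limits AlgebraicGeometry
open scoped TensorProduct

namespace Groth.Agent.Lib.AlgMisc.GeomRegAt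

theorem isRegularLocalRing_stalk_Spec_field (k : Type u) [Field k] (y : Spec (CommRingCat.of k)) :
    IsRegularLocalRing ((Spec (CommRingCat.of k)).presheaf.stalk y) := by
  letI : Algebra k ((Spec (CommRingCat.of k)).presheaf.stalk y) :=
    StructureSheaf.stalkAlgebra (R := k) y
  haveI : IsLocalization (PrimeSpectrum.asIdeal y).primeCompl ((Spec (CommRingCat.of k)).presheaf.stalk y) :=
    StructureSheaf.IsLocalization.to_stalk (R := k) y
  let e : k ≃+* (Spec (CommRingCat.of k)).presheaf.stalk y :=
    (IsLocalization.atUnits k (PrimeSpectrum.asIdeal y).primeCompl fun z hz =>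
      isUnit_iff_ne_zero.mpr fun h => hz (h ▸ (PrimeSpectrum.asIdeal y).zero_mem)).toRingEquiv
  exact IsRegularLocalRing.of_ringEquiv (R := k) e

theorem isRegularLocalRing_stalk_of_mem_smoothLocus {k : Type u} [Field k] {X : Scheme.{u}}
    (f : X ⟶ Spec (CommRingCat.of k)) [LocallyOfFinitePresentation f] {x : X}
    (hx : x ∈ f.smoothLocus) : IsRegularLocalRing (X.presheaf.stalk x) :=
  (GrothLib.LocProp.isRegularLocalRing_stalk_iff_of_mem_smoothLocus f x hx).mpr
    (isRegularLocalRing_stalk_Spec_field k _)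

theorem isRegularLocalRing_of_iso {A B : CommRingCat.{u}} (e : A ⟶ B) [IsIso e]
    [IsRegularLocalRing A] : IsRegularLocalRing B :=
  IsRegularLocalRing.of_ringEquiv (R := A) (asIso e).commRingCatIsoToRingEquiv

theorem isGeomRegularAt_of_mem_smoothLocus {k : Type u} [Field k] (X : Scheme.{u})
    [X.Over (Spec (CommRingCat.of k))] [LocallyOfFinitePresentation (X ↘ Spec (CommRingCat.of k))]
    {x : X} (hx : x ∈ (X ↘ Spec (CommRingCat.of k)).smoothLocus) :
    Curv2.IsGeomRegularAt k X x := by
  intro K _ _ _ z hz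
  set f := X ↘ Spec (CommRingCat.of k)
  let U := f.smoothLocus
  haveI : Smooth (U.ι ≫ f) := by
    rw [← Scheme.Hom.smoothLocus_eq_top_iff, ← Scheme.Hom.preimage_smoothLocus_eq]
    exact U.ι_preimage_self
  let g := Spec.map (CommRingCat.ofHom (algebraMap k K))
  let m := pullback.map (U.ι ≫ f) g f g U.ι (𝟙 _) (𝟙 _) (by simp) (by simp)
  have hm : IsPullback (pullback.fst _ _) m U.ι (pullback.fst f g) :=
    (IsPullback.of_right (by simpa [m] using (IsPullback.of_hasPullback (U.ι ≫ f) g).flip)
      (by simp [m]) (IsPullback.of_hasPullback _ _).flip).flip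
  haveI : IsOpenImmersion m := MorphismProperty.of_isPullback hm inferInstance
  obtain ⟨w, -, rfl⟩ := Scheme.exists_preimage_of_isPullback hm ⟨x, hx⟩ z hz.symm
  haveI : IsRegularLocalRing ((pullback (U.ι ≫ f) g).presheaf.stalk w) :=
    isRegularLocalRing_stalk_of_mem_smoothLocus (pullback.snd (U.ι ≫ f) g)
      (by rw [Scheme.Hom.smoothLocus_eq_top]; trivial)
  exact isRegularLocalRing_of_iso (inv (m.stalkMap w))

theorem mem_smoothLocus_spec_iff {k : Type u} [Field k] {A : Type u} [CommRing A] [Algebra k A]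
    [LocallyOfFinitePresentation (Spec.map (CommRingCat.ofHom (algebraMap k A)))] (p : PrimeSpectrum A) :
    p ∈ (Spec.map (CommRingCat.ofHom (algebraMap k A))).smoothLocus ↔ Algebra.IsSmoothAt k p.asIdeal := by
  haveI : p.asIdeal.LiesOver (p.asIdeal.comap (algebraMap k A)) := ⟨rfl⟩
  let := Localization.AtPrime.algebraOfLiesOver (p.asIdeal.comap (algebraMap k A)) p.asIdeal
  rw [Scheme.Hom.mem_smoothLocus]
  haveI : Algebra.FormallyEtale k (Localization.AtPrime (p.asIdeal.comap (algebraMap k A))) :=
    .of_isLocalization (p.asIdeal.comap (algebraMap k A)).primeCompl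
  refine Iff.trans ?_ (Algebra.FormallySmooth.iff_restrictScalars (R := k)
    (A := Localization.AtPrime (p.asIdeal.comap (algebraMap k A)))
    (B := Localization.AtPrime p.asIdeal)).symm
  rw [← RingHom.formallySmooth_algebraMap]
  exact RingHom.FormallySmooth.respectsIso.arrow_mk_iso_iff
    (Scheme.arrowStalkMapSpecIso (CommRingCat.ofHom (algebraMap k A)) p)

theorem mem_smoothLocus_chart {k : Type u} [Field k] (X : Scheme.{u})
    [X.Over (Spec (CommRingCat.of k))] [LocallyOfFinitePresentation (X ↘ Spec (CommRingCat.of k))]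
    {A : CommRingCat.{u}} (j : Spec A ⟶ X) [IsOpenImmersion j] (p : Spec A)
    (hx : Curv2.IsGeomRegularAt k X (j p)) :
    j p ∈ (X ↘ Spec (CommRingCat.of k)).smoothLocus := by
  set f := X ↘ Spec (CommRingCat.of k)
  let φ := Spec.preimage (j ≫ f)
  algebraize [φ.hom]
  have hj : j ≫ f = Spec.map (CommRingCat.ofHom (algebraMap k A)) := (Spec.map_preimage _).symm
  haveI : LocallyOfFinitePresentation (Spec.map (CommRingCat.ofHom (algebraMap k A))) := by
    rw [← hj]; infer_instance
  haveI : Algebra.FinitePresentation k A :=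
    RingHom.finitePresentation_algebraMap.mp
      ((HasRingHomProperty.Spec_iff (P := @LocallyOfFinitePresentation)).mp inferInstance)
  change p ∈ j ⁻¹ᵁ f.smoothLocus
  rw [Scheme.Hom.preimage_smoothLocus_eq]
  simp only [hj]
  refine (mem_smoothLocus_spec_iff (k := k) (A := A) p).mpr ?_
  let K := (PrimeSpectrum.asIdeal p).ResidueField
  haveI : Algebra.EssFiniteType A K := inferInstance
  haveI : Algebra.EssFiniteType k K := Algebra.EssFiniteType.comp k A K
  have hfg : (⊤ : IntermediateField k K).FG := IntermediateField.fg_top_iff.mpr inferInstance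
  let ψ : K ⊗[k] A →ₐ[K] K :=
    Algebra.TensorProduct.lift (AlgHom.id _ _) (IsScalarTower.toAlgHom k A K) fun _ _ ↦ Commute.all _ _
  let Q := RingHom.ker ψ.toRingHom
  have hψ : Function.Surjective ψ := fun z ↦ ⟨z ⊗ₜ 1, by simp [ψ]⟩
  haveI : Q.IsMaximal := RingHom.ker_isMaximal_of_surjective _ hψ
  have hcomap : Q.comap (Algebra.TensorProduct.includeRight : A →ₐ[k] K ⊗[k] A).toRingHom =
      PrimeSpectrum.asIdeal p := by
    ext s
    simp [Q, ψ]
    exact Ideal.algebraMap_residueField_eq_zero
  -- the point of `X_K`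
  let g := Spec.map (CommRingCat.ofHom (algebraMap k K))
  let m := pullback.map (j ≫ f) g f g j (𝟙 _) (𝟙 _) (by simp) (by simp)
  have hm : IsPullback (pullback.fst _ _) m j (pullback.fst f g) :=
    (IsPullback.of_right (by simpa [m] using (IsPullback.of_hasPullback (j ≫ f) g).flip)
      (by simp [m]) (IsPullback.of_hasPullback _ _).flip).flip
  haveI : IsOpenImmersion m := MorphismProperty.of_isPullback hm inferInstance
  let e := pullback.congrHom hj (rfl : g = _) ≪≫ pullbackSymmetry _ _ ≪≫ pullbackSpecIso k K A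
  let w : Spec (CommRingCat.of (K ⊗[k] A)) := ⟨Q, inferInstance⟩
  have hw : Curv2.bcFst k X K ((e.inv ≫ m) w) = j p := by
    have : (e.inv ≫ m) ≫ pullback.fst f g = Spec.map (CommRingCat.ofHom
        (Algebra.TensorProduct.includeRight : A →ₐ[k] K ⊗[k] A).toRingHom) ≫ j := by
      have h1 : (pullbackSpecIso k K A).hom ≫ Spec.map (CommRingCat.ofHom
          (Algebra.TensorProduct.includeRight : A →ₐ[k] K ⊗[k] A).toRingHom) = pullback.snd _ _ :=
        pullbackSpecIso_hom_snd k K A
      have h2 : (pullbackSpecIso k K A).inv ≫ pullback.snd _ _ = Spec.map (CommRingCat.ofHom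
          (Algebra.TensorProduct.includeRight : A →ₐ[k] K ⊗[k] A).toRingHom) := by
        rw [← h1, Iso.inv_hom_id_assoc]
      have h3 : m ≫ pullback.fst f g = pullback.fst (j ≫ f) g ≫ j := pullback.lift_fst _ _ _
      have h4 : e.inv ≫ pullback.fst (j ≫ f) g = Spec.map (CommRingCat.ofHom
          (Algebra.TensorProduct.includeRight : A →ₐ[k] K ⊗[k] A).toRingHom) := by
        rw [← h2, Iso.inv_comp_eq]
        simp only [e, Iso.trans_hom, Category.assoc, Iso.hom_inv_id_assoc]
        refine Eq.trans ?_ (congrArg (_ ≫ ·) (pullbackSymmetry_hom_comp_snd _ _).symm)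
        rw [pullback.congrHom_hom, pullback.lift_fst, Category.comp_id]
      rw [Category.assoc, h3, ← Category.assoc, h4]
    rw [← Scheme.Hom.comp_apply]
    refine (congrArg (fun h => h w) this).trans ?_
    exact congrArg j (PrimeSpectrum.ext hcomap)
  haveI := hx K hfg _ hw
  haveI : IsRegularLocalRing ((Spec (CommRingCat.of (K ⊗[k] A))).presheaf.stalk w) :=
    isRegularLocalRing_of_iso ((e.inv ≫ m).stalkMap w)
  letI : Algebra (K ⊗[k] A) ((Spec (CommRingCat.of (K ⊗[k] A))).presheaf.stalk w) :=
    StructureSheaf.stalkAlgebra (R := K ⊗[k] A) w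
  haveI : IsLocalization Q.primeCompl ((Spec (CommRingCat.of (K ⊗[k] A))).presheaf.stalk w) :=
    StructureSheaf.IsLocalization.to_stalk (R := K ⊗[k] A) w
  haveI : IsRegularLocalRing (Localization.AtPrime Q) :=
    IsRegularLocalRing.of_ringEquiv (R := (Spec (CommRingCat.of (K ⊗[k] A))).presheaf.stalk w)
      (IsLocalization.algEquiv Q.primeCompl ((Spec (CommRingCat.of (K ⊗[k] A))).presheaf.stalk w)
        (Localization.AtPrime Q)).toRingEquiv
  have hbij : Function.Bijective (algebraMap K (IsLocalRing.ResidueField (Localization.AtPrime Q))) := by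
    refine ⟨(algebraMap K _).injective, fun z ↦ ?_⟩
    obtain ⟨t, rfl⟩ := (Q.bijective_algebraMap_quotient_residueField).2 z
    obtain ⟨t, rfl⟩ := Ideal.Quotient.mk_surjective t
    refine ⟨ψ t, ?_⟩
    have ht : Ideal.Quotient.mk Q (algebraMap K _ (ψ t)) = Ideal.Quotient.mk Q t := by
      rw [Ideal.Quotient.eq, RingHom.mem_ker]
      show ψ (algebraMap K (K ⊗[k] A) (ψ t) - t) = 0
      rw [map_sub, AlgHom.commutes]
      simp
    rw [← ht]
    rfl
  haveI : Algebra.FormallySmooth K (IsLocalRing.ResidueField (Localization.AtPrime Q)) :=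
    .of_equiv (AlgEquiv.ofBijective (Algebra.ofId _ _) hbij)
  have h1 := GrothLib.LocProp.isSmoothAt_of_baseChange k K A Q
    (GrothLib.LocProp.isSmoothAt_of_isRegularLocalRing Q)
  have key : ∀ (I : Ideal A) [I.IsPrime], I = PrimeSpectrum.asIdeal p → Algebra.IsSmoothAt k I →
      Algebra.IsSmoothAt k (PrimeSpectrum.asIdeal p) := by rintro I _ rfl h; exact h
  exact key _ hcomap h1

theorem mem_smoothLocus_of_isGeomRegularAt {k : Type u} [Field k] (X : Scheme.{u})
    [X.Over (Spec (CommRingCat.of k))] [LocallyOfFinitePresentation (X ↘ Spec (CommRingCat.of k))]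
    {x : X} (hx : Curv2.IsGeomRegularAt k X x) :
    x ∈ (X ↘ Spec (CommRingCat.of k)).smoothLocus := by
  obtain ⟨i, p, rfl⟩ := X.affineOpenCover.openCover.exists_eq x
  exact mem_smoothLocus_chart X (X.affineOpenCover.f i) p hx

end Groth.Agent.Lib.AlgMisc.GeomRegAt
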