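import Groth.Agent.Lib.AlgMisc.GeomRedAt
import Groth.Agent.Lib.GeomReg.Insep
import Groth.Agent.Lib.GeomReg.FG
import Groth.Agent.Lib.Serre.Ring
import Groth.Prelude.Def_Found
import Mathlib

/-!
# Geometric regularity at a point versus geometric regularity of the local ring
-/

set_option autoImplicit false
set_option backward.isDefEq.respectTransparency false
set_option linter.style.haveILetI false
universe u

open CategoryTheory CategoryTheory.Limits AlgebraicGeometry
open scoped TensorProduct

namespace Groth.Agent.Lib.AlgMisc.GeomRegLocal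

open GeomRedAt

attribute [local instance] Curv2.stalkAlgebra

variable {k : Type u} [Field k] {X : Scheme.{u}} [X.Over (Spec (CommRingCat.of k))]

theorem stalk_iso_of_chart (x : X) (K : Type u) [Field K] [Algebra k K]
    (ι : Spec (CommRingCat.of (X.presheaf.stalk x ⊗[k] K)) ⟶ Curv2.bc k X K) [Flat ι] [IsPreimmersion ι]
    (w : Spec (CommRingCat.of (X.presheaf.stalk x ⊗[k] K))) :
    IsRegularLocalRing ((Curv2.bc k X K).presheaf.stalk (ι w)) ↔
      IsRegularLocalRing (Localization.AtPrime (PrimeSpectrum.asIdeal w)) := by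
  have hbij : Function.Bijective (ι.stalkMap w).hom := by
    refine ⟨?_, ι.stalkMap_surjective w⟩
    algebraize [(ι.stalkMap w).hom]
    haveI : Module.Flat _ _ := Flat.stalkMap ι w
    haveI : IsLocalHom (algebraMap ((Curv2.bc k X K).presheaf.stalk (ι w))
        ((Spec (CommRingCat.of (X.presheaf.stalk x ⊗[k] K))).presheaf.stalk w)) :=
      inferInstanceAs (IsLocalHom (ι.stalkMap w).hom)
    haveI := Module.FaithfullyFlat.of_flat_of_isLocalHom
      (A := (Curv2.bc k X K).presheaf.stalk (ι w))
      (B := (Spec (CommRingCat.of (X.presheaf.stalk x ⊗[k] K))).presheaf.stalk w)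
    exact FaithfulSMul.algebraMap_injective ((Curv2.bc k X K).presheaf.stalk (ι w))
      ((Spec (CommRingCat.of (X.presheaf.stalk x ⊗[k] K))).presheaf.stalk w)
  letI : Algebra (X.presheaf.stalk x ⊗[k] K) ((Spec (CommRingCat.of (X.presheaf.stalk x ⊗[k] K))).presheaf.stalk w) :=
    StructureSheaf.stalkAlgebra (R := X.presheaf.stalk x ⊗[k] K) w
  haveI : IsLocalization (PrimeSpectrum.asIdeal w).primeCompl
      ((Spec (CommRingCat.of (X.presheaf.stalk x ⊗[k] K))).presheaf.stalk w) :=
    StructureSheaf.IsLocalization.to_stalk (R := X.presheaf.stalk x ⊗[k] K) w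
  let e := (RingEquiv.ofBijective _ hbij).trans
    (IsLocalization.algEquiv (PrimeSpectrum.asIdeal w).primeCompl
      ((Spec (CommRingCat.of (X.presheaf.stalk x ⊗[k] K))).presheaf.stalk w)
      (Localization.AtPrime (PrimeSpectrum.asIdeal w))).toRingEquiv
  exact ⟨fun _ => IsRegularLocalRing.of_ringEquiv (R := (Curv2.bc k X K).presheaf.stalk (ι w)) e,
    fun _ => IsRegularLocalRing.of_ringEquiv (R := Localization.AtPrime (PrimeSpectrum.asIdeal w)) e.symm⟩

theorem isRegularRing_tensor_stalk [IsLocallyNoetherian X] (x : X) (K : Type u) [Field K] [Algebra k K]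
    [Module.Finite k K]
    (h : ∀ x' : Curv2.bc k X K, Curv2.bcFst k X K x' = x →
      IsRegularLocalRing ((Curv2.bc k X K).presheaf.stalk x')) :
    IsRegularRing (K ⊗[k] X.presheaf.stalk x) := by
  obtain ⟨ι, hfst, hι, hι', -⟩ := exists_local_chart k X x K
  haveI : IsNoetherianRing (X.presheaf.stalk x ⊗[k] K) := IsNoetherianRing.of_finite (X.presheaf.stalk x) _
  haveI : IsRegularRing (X.presheaf.stalk x ⊗[k] K) := by
    refine GrothLib.Serre.isRegularRing_of_forall_isMaximal _ fun Q hQ => ?_
    let R := CommRingCat.of (X.presheaf.stalk x ⊗[k] K)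
    let w : Spec R := ⟨Q, hQ.isPrime⟩
    have hw : Curv2.bcFst k X K (ι w) = x := by
      rw [← Scheme.Hom.comp_apply, hfst, Scheme.Hom.comp_apply]
      have : (Spec.map (CommRingCat.ofHom
          (algebraMap (X.presheaf.stalk x) (X.presheaf.stalk x ⊗[k] K))) w) = IsLocalRing.closedPoint _ := by
        haveI : (Q.comap (algebraMap (X.presheaf.stalk x) (X.presheaf.stalk x ⊗[k] K))).IsMaximal :=
          Ideal.isMaximal_comap_of_isIntegral_of_isMaximal Q
        exact PrimeSpectrum.ext (IsLocalRing.eq_maximalIdeal this)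
      exact (congrArg (X.fromSpecStalk x) this).trans Scheme.fromSpecStalk_closedPoint
    exact (stalk_iso_of_chart x K ι w).mp (h _ hw)
  exact IsRegularRing.of_ringEquiv (R := X.presheaf.stalk x ⊗[k] K)
    (Algebra.TensorProduct.comm k (X.presheaf.stalk x) K).toRingEquiv

theorem isGeometricallyRegular_stalk [IsLocallyNoetherian X] (x : X)
    (h : ∀ (k' : Type u) [Field k'] [Algebra k k'] [FiniteDimensional k k'] [IsPurelyInseparable k k']
      (x' : Curv2.bc k X k'), Curv2.bcFst k X k' x' = x →
        IsRegularLocalRing ((Curv2.bc k X k').presheaf.stalk x')) :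
    CAlg.IsGeometricallyRegular k (X.presheaf.stalk x) := by
  intro K _ _ hK
  haveI := hK
  exact GrothLib.GeomReg.isRegularRing_tensor_of_purelyInseparable
    (fun k' _ _ hfin hins => by
      haveI := hfin
      haveI := hins
      exact isRegularRing_tensor_stalk x k' fun x' hx' => h k' x' hx') K

theorem isGeomRegularAt_of_isGeometricallyRegular (x : X)
    (h : CAlg.IsGeometricallyRegular k (X.presheaf.stalk x)) : Curv2.IsGeomRegularAt k X x := by
  intro K _ _ hfg z hz
  haveI : Algebra.EssFiniteType k K := IntermediateField.fg_top_iff.mp hfg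
  haveI := GrothLib.GeomReg.isRegularRing_tensor_of_essFiniteType h K
  haveI : IsRegularRing (X.presheaf.stalk x ⊗[k] K) :=
    IsRegularRing.of_ringEquiv (R := K ⊗[k] X.presheaf.stalk x)
      (Algebra.TensorProduct.comm k K (X.presheaf.stalk x)).toRingEquiv
  obtain ⟨ι, -, hι, hι', hr⟩ := exists_local_chart k X x K
  obtain ⟨w, rfl⟩ := hr z (hz ▸ specializes_rfl)
  exact (stalk_iso_of_chart x K ι w).mpr inferInstance

end Groth.Agent.Lib.AlgMisc.GeomRegLocal
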