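import Mathlib

/-!
# Morphisms locally essentially of finite type

`locEFT` is the morphism property attached to `RingHom.Locally RingHom.EssFiniteType`; we compare
it with the description by affine covers and derive composition and base change stability.
-/

set_option autoImplicit false
universe u
open CategoryTheory CategoryTheory.Limits AlgebraicGeometry TopologicalSpace

namespace Groth.Agent.Lib.AlgMisc.LocEssFT

/-- Locally essentially of finite type. -/
def locEFT : MorphismProperty Scheme.{u} :=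
  affineLocally (RingHom.Locally RingHom.EssFiniteType)

lemma eft_localizationPreserves :
    RingHom.LocalizationPreserves RingHom.EssFiniteType.{u, u} :=
  RingHom.EssFiniteType.isStableUnderBaseChange.localizationPreserves

lemma eft_stableWithLocAway :
    RingHom.StableUnderCompositionWithLocalizationAway RingHom.EssFiniteType.{u, u} :=
  RingHom.StableUnderComposition.stableUnderCompositionWithLocalizationAway
    RingHom.EssFiniteType.stableUnderComposition
    (fun _ _ _ _ _ r _ => RingHom.EssFiniteType.holdsForLocalization _ (Submonoid.powers r))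

instance : HasRingHomProperty locEFT.{u} (RingHom.Locally RingHom.EssFiniteType) :=
  ⟨RingHom.locally_propertyIsLocal eft_localizationPreserves.away eft_stableWithLocAway, rfl⟩

variable {X Y : Scheme.{u}} (f : X ⟶ Y)

/-- The statement form: a covering by affines `U` each having such a cover of the preimage. -/
def CoverForm : Prop :=
  ∃ S : Set Y.affineOpens, (⋃ U ∈ S, ((U : Y.Opens) : Set ↥Y)) = Set.univ ∧
    ∀ U ∈ S, ∃ T : Set X.affineOpens,
      (⋃ V ∈ T, ((V : X.Opens) : Set ↥X)) = ((f ⁻¹ᵁ (U : Y.Opens)) : Set ↥X) ∧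
      ∀ V ∈ T, ∃ e : (V : X.Opens) ≤ f ⁻¹ᵁ (U : Y.Opens),
        (f.appLE (U : Y.Opens) (V : X.Opens) e).hom.EssFiniteType

/-- The statement form at a single affine open. -/
def PreimageForm (U : Y.affineOpens) : Prop :=
  ∃ T : Set X.affineOpens,
      (⋃ V ∈ T, ((V : X.Opens) : Set ↥X)) = ((f ⁻¹ᵁ (U : Y.Opens)) : Set ↥X) ∧
      ∀ V ∈ T, ∃ e : (V : X.Opens) ≤ f ⁻¹ᵁ (U : Y.Opens),
        (f.appLE (U : Y.Opens) (V : X.Opens) e).hom.EssFiniteType

theorem of_coverForm (h : CoverForm f) : locEFT f := by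
  rw [HasRingHomProperty.iff_exists_appLE_locally (P := locEFT) (f := f)
    eft_stableWithLocAway.left RingHom.EssFiniteType.respectsIso]
  intro x
  obtain ⟨S, hS, h⟩ := h
  have hy : f x ∈ ⋃ U ∈ S, ((U : Y.Opens) : Set ↥Y) := hS ▸ Set.mem_univ _
  simp only [Set.mem_iUnion] at hy
  obtain ⟨U, hU, hxU⟩ := hy
  obtain ⟨T, hT, hT'⟩ := h U hU
  have hx : x ∈ ⋃ V ∈ T, ((V : X.Opens) : Set ↥X) := hT ▸ hxU
  simp only [Set.mem_iUnion] at hx
  obtain ⟨V, hV, hxV⟩ := hx
  obtain ⟨e, he⟩ := hT' V hV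
  exact ⟨U, V, hxV, e, he⟩

theorem exists_nhd (h : locEFT f) (U : Y.affineOpens) (x : X) (hx : f x ∈ (U : Y.Opens)) :
    ∃ V : X.affineOpens, x ∈ (V : X.Opens) ∧ ∃ e : (V : X.Opens) ≤ f ⁻¹ᵁ (U : Y.Opens),
      (f.appLE (U : Y.Opens) (V : X.Opens) e).hom.EssFiniteType := by
  obtain ⟨V, hV, hxV, e⟩ := Opens.isBasis_iff_nbhd.mp X.isBasis_affineOpens
    (show x ∈ f ⁻¹ᵁ (U : Y.Opens) from hx)
  have hq := HasRingHomProperty.appLE locEFT f h U ⟨V, hV⟩ e
  rw [RingHom.locally_iff_isLocalization RingHom.EssFiniteType.respectsIso] at hq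
  obtain ⟨s, hs, hfs⟩ := hq
  have hcov := hV.iSup_basicOpen_eq_self_iff.mpr hs
  have : x ∈ (⨆ r : (s : Set Γ(X, V)), X.basicOpen (r : Γ(X, V))) := hcov.symm ▸ hxV
  rw [Opens.mem_iSup] at this
  obtain ⟨⟨r, hr⟩, hrx⟩ := this
  refine ⟨⟨X.basicOpen r, hV.basicOpen r⟩, hrx, (X.basicOpen_le r).trans e, ?_⟩
  rw [← f.appLE_map e (homOfLE (X.basicOpen_le r)).op]
  have : IsLocalization.Away r Γ(X, X.basicOpen r) := hV.isLocalization_basicOpen r
  exact hfs r hr _

theorem preimageForm (h : locEFT f) (U : Y.affineOpens) : PreimageForm f U := by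
  refine ⟨{V | ∃ e : (V : X.Opens) ≤ f ⁻¹ᵁ (U : Y.Opens),
        (f.appLE (U : Y.Opens) (V : X.Opens) e).hom.EssFiniteType}, ?_, fun V hV => hV⟩
  apply subset_antisymm
  · simp only [Set.iUnion_subset_iff]
    rintro V ⟨e, -⟩
    exact e
  · intro x hx
    obtain ⟨V, hxV, hV⟩ := exists_nhd f h U x hx
    exact Set.mem_biUnion (x := V) hV hxV

theorem coverForm_of_forall (h : ∀ U, PreimageForm f U) : CoverForm f := by
  refine ⟨Set.univ, ?_, fun U _ => h U⟩
  rw [Set.eq_univ_iff_forall]
  intro y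
  obtain ⟨U, hU, hy, -⟩ := Opens.isBasis_iff_nbhd.mp Y.isBasis_affineOpens (Opens.mem_top y)
  exact Set.mem_biUnion (x := ⟨U, hU⟩) (Set.mem_univ _) hy

theorem locEFT_iff_forall : locEFT f ↔ ∀ U, PreimageForm f U :=
  ⟨fun h U => preimageForm f h U, fun h => of_coverForm f (coverForm_of_forall f h)⟩

theorem locEFT_comp {Z : Scheme.{u}} (g : Y ⟶ Z) (hf : locEFT f) (hg : locEFT g) :
    locEFT (f ≫ g) := by
  haveI := HasRingHomProperty.stableUnderComposition (P := locEFT.{u})
    (RingHom.locally_stableUnderComposition RingHom.EssFiniteType.respectsIso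
      eft_localizationPreserves RingHom.EssFiniteType.stableUnderComposition)
  exact MorphismProperty.comp_mem _ f g hf hg

theorem locEFT_pullback_snd {Y' : Scheme.{u}} (g : Y' ⟶ Y) (hf : locEFT f) :
    locEFT (pullback.snd f g) := by
  haveI := HasRingHomProperty.isStableUnderBaseChange (P := locEFT.{u})
    (RingHom.locally_isStableUnderBaseChange RingHom.EssFiniteType.respectsIso
      RingHom.EssFiniteType.isStableUnderBaseChange)
  exact MorphismProperty.pullback_snd _ _ hf

end Groth.Agent.Lib.AlgMisc.LocEssFT
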