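import Groth.Agent.S7634
import Groth.Agent.S2141
import Groth.Agent.Lib.FibreDimAt6.Smooth
import Groth.Agent.Lib.AlgSp.FibreDimBC
import Groth.Agent.Lib.CMFree.Regular
import Groth.Agent.Lib.Serre.Smooth
import Groth.Agent.Lib.Dim.Ring
import Groth.Prelude.Def_Flat
import Mathlib

/-!
# Smoothness over a field through the rank of the differentials and the local dimension
-/

set_option autoImplicit false
set_option backward.isDefEq.respectTransparency false

universe u

open CategoryTheory Limits AlgebraicGeometry TensorProduct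

namespace Groth.Agent.Lib.AlgMisc.SmoothRank

variable {k : Type u} [Field k]

theorem localDim_standardSmooth (r : ℕ) (D : Type u) [CommRing D] [Algebra k D]
    [Algebra.IsStandardSmoothOfRelativeDimension r k D] (p : Ideal D) [hp : p.IsPrime] :
    FlatMor.localDim (PrimeSpectrum D) ⟨p, hp⟩ = (r : WithBot ℕ∞) := by
  let f := Spec.map (CommRingCat.ofHom (algebraMap k D))
  haveI : SmoothOfRelativeDimension r f :=
    HasRingHomProperty.Spec_iff.mpr (RingHom.locally_of
      RingHom.isStandardSmoothOfRelativeDimension_respectsIso _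
      (RingHom.isStandardSmoothOfRelativeDimension_algebraMap r |>.mpr inferInstance))
  haveI : Smooth f := SmoothOfRelativeDimension.smooth r f
  let x : ↥(Spec (CommRingCat.of D)) := ⟨p, hp⟩
  have h := (GrothLib.AlgSp.localDim_of_field_bc f (IsPullback.of_hasPullback f _) (f.asFiber x)).trans
    (congrArg _ (f.fiberι_asFiber x))
  exact h.symm.trans (GrothLib.FibreDimAt6.fibreDimAt_eq_of_smooth r f x)

theorem exists_trdeg {S : Type u} [CommRing S] [Algebra k S] [Algebra.FiniteType k S]
    (p : Ideal S) [p.IsPrime] : ∃ t : ℕ, Algebra.trdeg k p.ResidueField = t := by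
  obtain ⟨n, hn, -⟩ := GrothLib.Dim.exists_nat_trdeg_eq_and_ringKrullDim_eq k (S ⧸ p)
  have : Algebra.IsAlgebraic (S ⧸ p) p.ResidueField := IsLocalization.isAlgebraic _ (nonZeroDivisors (S ⧸ p))
  have h2 := trdeg_add_eq k (S ⧸ p) (A := p.ResidueField)
  rw [hn, trdeg_eq_zero (R := S ⧸ p) (A := p.ResidueField), add_zero] at h2
  exact ⟨n, h2.symm⟩

/-- A surjection of local algebras identifies the transcendence degrees of the residue fields. -/
theorem trdeg_residue_eq {R R' : Type u} [CommRing R] [CommRing R'] [IsLocalRing R] [IsLocalRing R']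
    [Algebra k R] [Algebra k R'] (ψ : R →ₐ[k] R') (hψ : Function.Surjective ψ) :
    Algebra.trdeg k (IsLocalRing.ResidueField R) = Algebra.trdeg k (IsLocalRing.ResidueField R') := by
  let F : R →ₐ[k] IsLocalRing.ResidueField R' := (IsScalarTower.toAlgHom k R' _).comp ψ
  have hF : Function.Surjective F := IsLocalRing.residue_surjective.comp hψ
  have hker : RingHom.ker F.toRingHom = IsLocalRing.maximalIdeal R :=
    IsLocalRing.eq_maximalIdeal (RingHom.ker_isMaximal_of_surjective _ hF)
  exact ((Ideal.quotientEquivAlgOfEq k hker.symm).trans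
    (Ideal.quotientKerAlgEquivOfSurjective hF)).trdeg_eq

theorem exists_dim_eq_nat (R : Type u) [CommRing R] [IsLocalRing R] [IsNoetherianRing R] :
    ∃ n : ℕ, ringKrullDim R = n := by
  obtain ⟨n, hn⟩ := ENat.ne_top_iff_exists.mp
    (Ideal.height_ne_top_of_isPrime (I := IsLocalRing.maximalIdeal R))
  refine ⟨n, ?_⟩
  rw [← IsLocalRing.maximalIdeal_height_eq_ringKrullDim, ← hn]
  rfl

variable {S : Type u} [CommRing S] [Algebra k S] [Algebra.FiniteType k S]

/-- If the local dimension is at least the number of generators of the differentials, the point is smooth. -/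
theorem isSmoothAt_of_finrank_le (q : Ideal S) [hq : q.IsPrime]
    (h : ((Module.finrank q.ResidueField (q.ResidueField ⊗[S] Ω[S⁄k]) : ℕ∞) : WithBot ℕ∞) ≤
      FlatMor.localDim (PrimeSpectrum S) ⟨q, hq⟩) : Algebra.IsSmoothAt k q := by
  set r := Module.finrank q.ResidueField (q.ResidueField ⊗[S] Ω[S⁄k]) with hr
  obtain ⟨g, hg, D, _, _, hD, φ, hφ⟩ := Groth.Agent.S7634.result k S q r hr.symm
  haveI := hD
  haveI : Algebra.IsStandardSmooth k D := Algebra.IsStandardSmoothOfRelativeDimension.isStandardSmooth r
  haveI : Algebra.FiniteType k D := inferInstance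
  let Sq := Localization.AtPrime q
  have hu : ∀ y : Submonoid.powers g, IsUnit (algebraMap S Sq y) := by
    rintro ⟨_, n, rfl⟩
    rw [map_pow]
    exact (IsLocalization.map_units Sq (⟨g, hg⟩ : q.primeCompl)).pow n
  let j : Localization.Away g →ₐ[k] Sq :=
    IsLocalization.liftAlgHom (f := IsScalarTower.toAlgHom k S Sq) hu
  let χ : D →ₐ[k] Sq := j.comp φ
  let q' : Ideal D := (IsLocalRing.maximalIdeal Sq).comap χ.toRingHom
  have hχu : ∀ y : q'.primeCompl, IsUnit (χ y) := fun y => not_not.mp y.2
  let ψ : Localization.AtPrime q' →ₐ[k] Sq := IsLocalization.liftAlgHom (f := χ) hχu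
  have hψ : Function.Surjective ψ := by
    intro z
    obtain ⟨s, ⟨t, ht⟩, rfl⟩ := IsLocalization.exists_mk'_eq q.primeCompl z
    obtain ⟨d, hd⟩ := hφ (algebraMap S _ s)
    obtain ⟨e, he⟩ := hφ (algebraMap S _ t)
    have hd' : χ d = algebraMap S Sq s := by
      show j (φ d) = _
      rw [hd]
      exact IsLocalization.lift_eq _ _
    have he' : χ e = algebraMap S Sq t := by
      show j (φ e) = _
      rw [he]
      exact IsLocalization.lift_eq _ _
    have heq : e ∈ q'.primeCompl := fun hmem => by
      apply (show ¬ χ e ∈ IsLocalRing.maximalIdeal Sq from ?_) hmem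
      rw [he']
      exact fun h => h (IsLocalization.map_units Sq (⟨t, ht⟩ : q.primeCompl))
    refine ⟨IsLocalization.mk' _ d (⟨e, heq⟩ : q'.primeCompl), ?_⟩
    rw [IsLocalization.eq_mk'_iff_mul_eq]
    show ψ _ * algebraMap S Sq t = algebraMap S Sq s
    rw [← hd', ← he']
    have h1 : ψ (algebraMap D _ d) = χ d := IsLocalization.lift_eq _ _
    have h2 : ψ (algebraMap D _ e) = χ e := IsLocalization.lift_eq _ _
    rw [← h1, ← h2, ← map_mul]
    exact congrArg ψ (IsLocalization.mk'_spec _ d (⟨e, heq⟩ : q'.primeCompl))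
  obtain ⟨t, ht⟩ := exists_trdeg (k := k) q
  have ht' : Algebra.trdeg k q'.ResidueField = t := (trdeg_residue_eq ψ hψ).trans ht
  have hdq := Groth.Agent.S2141.result q t ht
  have hdD := (Groth.Agent.S2141.result q' t ht').symm.trans (localDim_standardSmooth (k := k) r D q')
  rw [hdq, show ((r : ℕ∞) : WithBot ℕ∞) = (r : WithBot ℕ∞) from rfl, ← hdD] at h
  haveI := GrothLib.Serre.isRegularLocalRing_of_isSmoothAt (k := k) q'
  haveI := GrothLib.CMFree.isDomain_of_isRegularLocalRing (Localization.AtPrime q')
  have hinj : Function.Injective ψ := by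
    rw [injective_iff_map_eq_zero]
    intro x hx
    by_contra hx0
    let ψ' : (Localization.AtPrime q' ⧸ Ideal.span {x}) →+* Sq :=
      Ideal.Quotient.lift _ ψ.toRingHom fun y hy => by
        obtain ⟨c, rfl⟩ := Ideal.mem_span_singleton'.mp hy
        show ψ (c * x) = 0
        rw [map_mul, hx, mul_zero]
    have h1 := ringKrullDim_le_of_surjective ψ' (Ideal.Quotient.lift_surjective_of_surjective _ _ hψ)
    have h2 := ringKrullDim_quotient_succ_le_of_nonZeroDivisor (mem_nonZeroDivisors_of_ne_zero hx0)
    obtain ⟨a, ha⟩ := exists_dim_eq_nat (Localization.AtPrime q')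
    haveI : IsNoetherianRing S := Algebra.FiniteType.isNoetherianRing k S
    obtain ⟨b, hb⟩ := exists_dim_eq_nat Sq
    have h3 : (b : WithBot ℕ∞) + 1 ≤ a := by
      rw [← hb, ← ha]
      exact (add_le_add h1 le_rfl).trans h2
    have h4 : (a : WithBot ℕ∞) + t ≤ b + t := by
      rw [← hb, ← ha]
      exact h
    norm_cast at h3 h4
    omega
  haveI : Algebra.IsSmoothAt k q' := inferInstance
  exact Algebra.FormallySmooth.of_equiv (AlgEquiv.ofBijective ψ ⟨hinj, hψ⟩)

theorem finrank_le_of_isSmoothAt (q : Ideal S) [hq : q.IsPrime] [Algebra.IsSmoothAt k q] :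
    FlatMor.localDim (PrimeSpectrum S) ⟨q, hq⟩ =
      ((Module.finrank q.ResidueField (q.ResidueField ⊗[S] Ω[S⁄k]) : ℕ∞) : WithBot ℕ∞) := by
  haveI : Algebra.FinitePresentation k S := Algebra.FinitePresentation.of_finiteType.mp ‹_›
  obtain ⟨g, hg, hstd⟩ := Algebra.IsSmoothAt.exists_notMem_isStandardSmooth k q
  let Sg := Localization.Away g
  obtain ⟨ι, σ, _, _, ⟨P⟩⟩ := hstd
  haveI : Algebra.IsStandardSmoothOfRelativeDimension P.dimension k Sg :=
    P.isStandardSmoothOfRelativeDimension rfl
  haveI : Algebra.IsStandardSmooth k Sg := P.isStandardSmooth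
  let κ := q.ResidueField
  have hu : IsUnit (algebraMap S κ g) := by
    rw [isUnit_iff_ne_zero, ne_eq, Ideal.algebraMap_residueField_eq_zero]
    exact hg
  letI : Algebra Sg κ := (IsLocalization.Away.lift (S := Sg) g hu).toAlgebra
  haveI : IsScalarTower S Sg κ :=
    .of_algebraMap_eq fun a => (IsLocalization.Away.lift_eq g hu a).symm
  haveI : Algebra.FormallyEtale S Sg := .of_isLocalization (.powers g)
  haveI : Nontrivial Sg := (algebraMap Sg κ).domain_nontrivial
  have hfin : Module.finrank κ (κ ⊗[S] Ω[S⁄k]) = P.dimension := by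
    rw [← ((TensorProduct.AlgebraTensorModule.cancelBaseChange S Sg κ κ Ω[S⁄k]).symm.trans
      (TensorProduct.AlgebraTensorModule.congr (LinearEquiv.refl κ κ)
        (KaehlerDifferential.tensorKaehlerEquivOfFormallyEtale k S Sg))).symm.finrank_eq,
      Module.finrank_baseChange, Module.finrank,
      Algebra.IsStandardSmoothOfRelativeDimension.rank_kaehlerDifferential P.dimension,
      Cardinal.toNat_natCast]
  rw [hfin]
  let qg : Ideal Sg := q.map (algebraMap S Sg)
  have hdis : Disjoint (Submonoid.powers g : Set S) q :=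
    (Ideal.disjoint_powers_iff_notMem_of_isPrime _).mpr hg
  haveI : qg.IsPrime := IsLocalization.isPrime_of_isPrime_disjoint (.powers g) _ _ hq hdis
  have hcom : qg.comap (algebraMap S Sg) = q :=
    IsLocalization.comap_map_of_isPrime_disjoint (.powers g) _ hq hdis
  haveI : IsLocalization.AtPrime (Localization.AtPrime qg) q := by
    have := IsLocalization.isLocalization_isLocalization_atPrime_isLocalization (Submonoid.powers g)
      (S := Sg) (Localization.AtPrime qg) qg
    simpa only [hcom] using this
  let e : Localization.AtPrime q ≃ₐ[k] Localization.AtPrime qg :=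
    (IsLocalization.algEquiv q.primeCompl _ (Localization.AtPrime qg)).restrictScalars k
  obtain ⟨t, ht⟩ := exists_trdeg (k := k) q
  have ht' : Algebra.trdeg k qg.ResidueField = t :=
    (trdeg_residue_eq e.toAlgHom e.surjective).symm.trans ht
  rw [Groth.Agent.S2141.result q t ht, ringKrullDim_eq_of_ringEquiv e.toRingEquiv,
    ← Groth.Agent.S2141.result qg t ht', localDim_standardSmooth (k := k) P.dimension Sg qg]
  rfl

end Groth.Agent.Lib.AlgMisc.SmoothRank
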